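import Cfsg.Agent.Lib.Grp.TM.Group

/-! A field with eight elements on three bits. -/

set_option autoImplicit false
set_option maxRecDepth 100000

namespace Cfsg.Agent.Grp.TM

/-- a bit mask -/
def bsel (a k n : ℕ) : ℕ := cond (a.testBit k) n 0

/-- multiplication by the primitive element -/
def xa8 (b : ℕ) : ℕ := bsel b 0 2 ^^^ bsel b 1 4 ^^^ bsel b 2 3

/-- multiplication -/
def mul8 (a b : ℕ) : ℕ := bsel a 0 b ^^^ bsel a 1 (xa8 b) ^^^ bsel a 2 (xa8 (xa8 b))

variable {K : Type*} [Field K]

/-- the element with given bits -/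
def dec (α : K) (n : ℕ) : K :=
  cond (n.testBit 0) 1 0 + cond (n.testBit 1) α 0 + cond (n.testBit 2) (α * α) 0

theorem dec_one (α : K) : dec α 1 = 1 := by simp [dec, Nat.testBit]

theorem dec_zero (α : K) : dec α 0 = 0 := by simp [dec]

theorem cond_xor [CharP K 2] (p q : Bool) (x : K) :
    cond (p ^^ q) x 0 = cond p x 0 + cond q x 0 := by
  cases p <;> cases q <;> simp [CharTwo.add_self_eq_zero]

theorem dec_xor [CharP K 2] (α : K) (a b : ℕ) : dec α (a ^^^ b) = dec α a + dec α b := by
  simp only [dec, Nat.testBit_xor, cond_xor]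
  abel

theorem dec_bsel (α : K) (a k n : ℕ) : dec α (bsel a k n) = cond (a.testBit k) 1 0 * dec α n := by
  unfold bsel
  cases a.testBit k <;> simp [dec_zero]

theorem dec_xa8 [CharP K 2] {α : K} (hα : α * α * α = α + 1) (b : ℕ) :
    dec α (xa8 b) = α * dec α b := by
  have h2 : dec α 2 = α := by simp [dec, Nat.testBit]
  have h4 : dec α 4 = α * α := by simp [dec, Nat.testBit]
  have h3 : dec α 3 = α + 1 := by simp [dec, Nat.testBit, add_comm]
  rw [xa8, dec_xor, dec_xor, dec_bsel, dec_bsel, dec_bsel, h2, h3, h4, ← hα]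
  unfold dec
  cases b.testBit 0 <;> cases b.testBit 1 <;> cases b.testBit 2 <;>
    simp <;> ring

theorem dec_mul8 [CharP K 2] {α : K} (hα : α * α * α = α + 1) (a b : ℕ) :
    dec α (mul8 a b) = dec α a * dec α b := by
  rw [mul8, dec_xor, dec_xor, dec_bsel, dec_bsel, dec_bsel, dec_xa8 hα, dec_xa8 hα, dec_xa8 hα]
  rw [show dec α a = cond (a.testBit 0) 1 0 + cond (a.testBit 1) 1 0 * α +
    cond (a.testBit 2) 1 0 * (α * α) by
      unfold dec; cases a.testBit 1 <;> cases a.testBit 2 <;> simp]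
  ring

theorem dec_mod [CharP K 2] (α : K) (n : ℕ) : dec α (n % 8) = dec α n := by
  have h : ∀ k < 3, (n % 2 ^ 3).testBit k = n.testBit k := fun k hk => by
    rw [Nat.testBit_mod_two_pow, decide_eq_true hk, Bool.true_and]
  change dec α (n % 2 ^ 3) = _
  simp only [dec, h 0 (by norm_num), h 1 (by norm_num), h 2 (by norm_num)]

theorem alpha_ne [CharP K 2] {α : K} (hα : α * α * α = α + 1) : α ≠ 0 ∧ α + 1 ≠ 0 := by
  have h0 : α ≠ 0 := by
    rintro rfl
    simp at hα
  exact ⟨h0, fun h => h0 (by rw [h] at hα; simpa using hα)⟩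

theorem dec_eq_zero [CharP K 2] {α : K} (hα : α * α * α = α + 1) {n : ℕ} (h : dec α n = 0) :
    ∀ k < 3, n.testBit k = false := by
  obtain ⟨h0, h1⟩ := alpha_ne hα
  have e6 : α * α + 1 = (α + 1) * (α + 1) := by
    linear_combination (-α) * (CharTwo.two_eq_zero (R := K))
  have e5 : (α * α + α + 1) = α * α * α * (α * α) := by
    linear_combination (-(α * α + 1)) * hα
  have e4 : α * α + α = α * (α + 1) := by ring
  revert h
  unfold dec
  cases hb0 : n.testBit 0 <;> cases hb1 : n.testBit 1 <;> cases hb2 : n.testBit 2 <;>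
    intro h <;> simp only [cond_true, cond_false, add_zero, zero_add] at h
  · intro k hk; interval_cases k <;> assumption
  · exact absurd h (mul_ne_zero h0 h0)
  · exact absurd h h0
  · exact absurd (show α * (α + 1) = 0 by linear_combination h) (mul_ne_zero h0 h1)
  · exact absurd h one_ne_zero
  · exact absurd (show (α + 1) * (α + 1) = 0 by
      linear_combination h + α * (CharTwo.two_eq_zero (R := K))) (mul_ne_zero h1 h1)
  · exact absurd (show α + 1 = 0 by linear_combination h) h1
  · exact absurd (show α * α * α * (α * α) = 0 by linear_combination h - e5)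
      (mul_ne_zero (mul_ne_zero (mul_ne_zero h0 h0) h0) (mul_ne_zero h0 h0))

theorem dec_inj [CharP K 2] {α : K} (hα : α * α * α = α + 1) {a b : ℕ}
    (h : dec α a = dec α b) : ∀ k < 3, a.testBit k = b.testBit k := fun k hk => by
  have := dec_eq_zero hα (n := a ^^^ b) (by rw [dec_xor, h, CharTwo.add_self_eq_zero]) k hk
  rw [Nat.testBit_xor] at this
  cases h1 : a.testBit k <;> cases h2 : b.testBit k <;> simp_all

theorem dec_surjective [CharP K 2] [Fintype K] (hK : Fintype.card K = 8) {α : K}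
    (hα : α * α * α = α + 1) : Function.Surjective fun n : Fin 8 => dec α (n : ℕ) := by
  refine ((Fintype.bijective_iff_injective_and_card _).2 ⟨fun a b h => ?_, by simp [hK]⟩).2
  refine Fin.ext (Nat.eq_of_testBit_eq fun k => ?_)
  by_cases hk : k < 3
  · exact dec_inj hα h k hk
  · rw [Nat.testBit_lt_two_pow (a.2.trans_le (Nat.pow_le_pow_right (by norm_num) (not_lt.1 hk) :
      2 ^ 3 ≤ 2 ^ k)), Nat.testBit_lt_two_pow (b.2.trans_le
      (Nat.pow_le_pow_right (by norm_num) (not_lt.1 hk) : 2 ^ 3 ≤ 2 ^ k))]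

theorem exists_alpha [Fintype K] (hK : Fintype.card K = 8) :
    CharP K 2 ∧ ∃ α : K, α * α * α = α + 1 := by
  obtain ⟨p, hp⟩ := CharP.exists K
  obtain ⟨n, hpp, hn⟩ := FiniteField.card K p
  have hp2 : p = 2 := by
    have : p ∣ 2 ^ 3 := by rw [show (2 : ℕ) ^ 3 = 8 from rfl, ← hK, hn]; exact dvd_pow_self _ n.ne_zero
    exact (Nat.prime_dvd_prime_iff_eq hpp Nat.prime_two).1 (hpp.dvd_of_dvd_pow this)
  subst hp2
  refine ⟨hp, ?_⟩
  classical
  obtain ⟨x, hx⟩ : ∃ x : K, x ∉ ({0, 1} : Finset K) := by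
    by_contra hne
    push Not at hne
    have := Finset.card_le_card (s := Finset.univ) (t := ({0, 1} : Finset K)) fun a _ => hne a
    rw [Finset.card_univ, hK] at this
    have : ({0, 1} : Finset K).card ≤ 2 := Finset.card_le_two
    omega
  simp only [Finset.mem_insert, Finset.mem_singleton, not_or] at hx
  have h7 : x ^ 7 = 1 := by
    have := FiniteField.pow_card_sub_one_eq_one x hx.1
    rwa [hK] at this
  have hprod : (x - 1) * ((x * x * x + x + 1) * (x * x * x + x * x + 1)) = 0 := by
    linear_combination h7 + (x - 1) * (x ^ 3) * (CharTwo.two_eq_zero (R := K))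
  rcases mul_eq_zero.1 hprod with h | h
  · exact absurd (sub_eq_zero.1 h) hx.2
  rcases mul_eq_zero.1 h with h | h
  · exact ⟨x, by linear_combination h - (x + 1) * (CharTwo.two_eq_zero (R := K))⟩
  · refine ⟨x⁻¹, ?_⟩
    have := hx.1
    field_simp
    linear_combination h - (x * x * x + x * x) * (CharTwo.two_eq_zero (R := K))

end Cfsg.Agent.Grp.TM
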