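import Cfsg.Agent.Lib.Grp.TM.Comp
import Cfsg.Agent.Lib.Grp.TM.StabData

/-! The tests for one stabiliser. -/

set_option autoImplicit false

namespace Cfsg.Agent.Grp.TM

/-- the generators of the stabiliser -/
def sgL (sg : List (List ℕ)) : List (List ℕ) := sg.map wmat

/-- their inverses -/
def sgInvL (sg : List (List ℕ)) : List (List ℕ) := sg.map fun w => wmat w.reverse

/-- the generators fix the representative -/
def sgenOK (i : ℕ) (sg : List (List ℕ)) : Bool :=
  sg.all fun w => isG w && Nat.beq (wapp w (rep i)) (rep i) &&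
    mulL (wmat w) (wmat w.reverse) == oneL

/-- the unipotent part is large -/
def twoOK (i : ℕ) (ch : List (ℕ × List (List ℕ))) : Bool :=
  chainOK [rep i] ch && Nat.beq (chainLen ch) (Nat.gcd (hOrd i) (2 ^ 24))

/-- the Sylow 3-subgroup -/
def sylOK (i : ℕ) (sg pg : List (List ℕ)) : Bool :=
  let P := growN (pg.map (tmat (sgL sg))) 8
  Nat.beq P.length (Nat.gcd (hOrd i) (3 ^ 24)) && closedB (pg.map (tmat (sgL sg))) P &&
    keysOK P 0 && P.contains oneL

/-- conjugacy of the elements of order three -/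
def pconjOK (sg pg : List (List ℕ)) (ys : List (List ℕ × List ℕ))
    (cs : List (List ℕ × ℕ × List ℕ)) : Bool :=
  (ys.all fun y => tmat (sgL sg) y.2 == y.1 && powL y.1 3 == oneL) &&
  (cs.all fun c => Nat.blt c.2.1 ys.length &&
      mulL (tmat (sgL sg) c.2.2) (ys.getD c.2.1 ([], [])).1 == mulL c.1 (tmat (sgL sg) c.2.2)) &&
    (growN (pg.map (tmat (sgL sg))) 8).all fun x =>
      x == oneL || !(powL x 3 == oneL) || cs.any fun c => c.1 == x

/-- the class of an element has at least this many members -/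
def conjOK (sg : List (List ℕ)) (y : List ℕ) (z : List (ℕ × ℕ × List ℕ)) : Bool :=
  let s := sgL sg
  let t := sgInvL sg
  (z.all fun e => Nat.blt e.2.1 sg.length) &&
    treeOK (fun g M => mulL (s.getD g oneL) (mulL M (t.getD g oneL))) z [y] 1 &&
    keysOK (y :: z.map fun e => e.2.2) 0

/-- a centraliser -/
def centOK (i : ℕ) (sg : List (List ℕ)) (y : List ℕ) (cg : List (List ℕ))
    (ce : List (ℕ × ℕ × List ℕ)) (z : List (ℕ × ℕ × List ℕ)) : Bool :=
  let c := cg.map (tmat (sgL sg))
  (c.all fun C => mulL C y == mulL y C) && (ce.all fun e => Nat.blt e.2.1 cg.length) &&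
    treeOK (fun g M => mulL (c.getD g oneL) M) ce [oneL] 1 &&
    keysOK (oneL :: ce.map fun e => e.2.2) 0 &&
    Nat.ble (hOrd i) ((ce.length + 1) * (z.length + 1)) && conjOK sg y z &&
    okM oneL && ce.all fun e => okM e.2.2

/-- an element of order seven with a large class -/
def sevenOK (i : ℕ) (sg : List (List ℕ)) (y : List ℕ × List ℕ) (z : List (ℕ × ℕ × List ℕ)) : Bool :=
  tmat (sgL sg) y.2 == y.1 && powL y.1 7 == oneL && !(y.1 == oneL) &&
    Nat.blt (hOrd i) (28 * (z.length + 1)) && conjOK sg y.1 z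

end Cfsg.Agent.Grp.TM
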