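import Cfsg.Agent.Lib.Grp.TM.Orbit
import Cfsg.Agent.Lib.Grp.TM.StabComp

/-! Subgroups of the stabilisers coming from the certificates, and their orders. -/

set_option autoImplicit false
set_option maxRecDepth 100000

namespace Cfsg.Agent.Grp.TM

instance instGWAction : MulAction GW W where
  smul := act
  one_smul := act_one
  mul_smul := act_mul

theorem smul_eq_act (g : GW) (v : W) : g • v = act g v := rfl

/-- the stabiliser of a representative -/
def stab (i : Fin 6) : Subgroup GW := G0 ⊓ MulAction.stabilizer GW (repW i)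

theorem mem_stab {i : Fin 6} {g : GW} : g ∈ stab i ↔ g ∈ G0 ∧ act g (repW i) = repW i :=
  Iff.rfl

theorem mm_pow (g : GW) (n : ℕ) : mm (g ^ n) = powL (mm g) n := by
  induction n with
  | zero => exact mm_one
  | succ n ih => rw [pow_succ', mm_mul, ih]; rfl

/-- the unipotent part -/
def U : Subgroup GW := Subgroup.closure (gen '' {i | isU [i] = true})

theorem U_le : U ≤ G0 := (Subgroup.closure_le _).2 fun x hx => by
  obtain ⟨i, -, rfl⟩ := hx
  exact gen_mem i

theorem gw_mem_U {w : List ℕ} (hw : isU w = true) : gw w ∈ U := by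
  induction w with
  | nil => exact U.one_mem
  | cons i w ih =>
    simp only [isU, List.all_cons, Bool.and_eq_true] at hw
    exact U.mul_mem (Subgroup.subset_closure ⟨i, by simpa [isU] using hw.1, rfl⟩) (ih hw.2)

theorem tri_U {g : GW} (hg : g ∈ U) : Tri g := by
  refine Subgroup.closure_induction_left (p := fun x _ => Tri x) tri_one ?_ ?_ hg
  · rintro x ⟨i, hi, rfl⟩ y - hy
    exact tri_mul (gen_tri hi) hy
  · rintro x ⟨i, hi, rfl⟩ y - hy
    rw [inv_eq_of_mul_eq_one_right (gen_mul_self i)]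
    exact tri_mul (gen_tri hi) hy

/-- `g + 1` -/
def dd (g : GW) (v : W) : W := act g v + v

theorem dd_sq (g : GW) (v : W) : dd (g * g) v = dd g (dd g v) := by
  simp only [dd, act_add, act_mul]
  rw [add_assoc (act g (act g v)), ← add_assoc (act g v), W.add_self, zero_add]

theorem tri_dd_seven {g : GW} (hg : Tri g) (v : W) :
    dd g (dd g (dd g (dd g (dd g (dd g (dd g v)))))) = 0 := by
  have h1 := hg 0 v (one_dvd _)
  have h2 := hg 1 _ h1
  have h3 := hg 2 _ h2
  have h4 := hg 3 _ h3
  have h5 := hg 5 _ h4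
  have h6 := hg 6 _ h5
  have h7 := hg 7 _ h6
  exact W.ext (Nat.eq_zero_of_dvd_of_lt h7 (W.lt _))

theorem dd_eight (g : GW) (v : W) :
    dd (g ^ 8) v = dd g (dd g (dd g (dd g (dd g (dd g (dd g (dd g v))))))) := by
  rw [show g ^ 8 = ((g * g) * (g * g)) * ((g * g) * (g * g)) by simp [pow_succ, mul_assoc]]
  simp only [dd_sq]

theorem tri_pow_eight {g : GW} (hg : Tri g) : g ^ 8 = 1 := by
  refine mm_injective ?_
  refine List.ext_getElem (by simp [mm, length_mat]) fun j h1 h2 => ?_
  simp only [mm, mat, List.getElem_ofFn]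
  refine congrArg W.val ?_
  show act (g ^ 8) (basisW _) = basisW _
  set b := basisW _
  have h := tri_dd_seven hg (dd g b)
  rw [← dd_eight g b, dd] at h
  calc act (g ^ 8) b = act (g ^ 8) b + b + b := by rw [add_assoc, W.add_self, add_zero]
    _ = b := by rw [h, zero_add]

theorem isPGroup_U : IsPGroup 2 U := fun g =>
  ⟨3, Subtype.ext (by simpa using tri_pow_eight (tri_U g.2))⟩

/-- fixing some vectors -/
def fixN (F : List ℕ) : Subgroup GW where
  carrier := {g | ∀ v : W, v.val ∈ F → act g v = v}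
  one_mem' _ _ := rfl
  mul_mem' {a b} ha hb v hv := by rw [act_mul, hb v hv, ha v hv]
  inv_mem' {a} ha v hv := by
    conv_lhs => rw [← ha v hv]
    rw [← act_mul, inv_mul_cancel, act_one]

theorem nodupB_spec : ∀ {L : List ℕ}, nodupB L = true → L.Nodup
  | [], _ => List.nodup_nil
  | a :: as, h => by
    simp only [nodupB, Bool.and_eq_true, List.all_eq_true, Bool.not_eq_true'] at h
    refine List.nodup_cons.2 ⟨fun ha => ?_, nodupB_spec h.2⟩
    simpa using h.1 a ha

theorem keysOK_spec : ∀ {L : List (List ℕ)} {seen : ℕ}, keysOK L seen = true →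
    L.Nodup ∧ ∀ A ∈ L, seen.testBit (key A) = false
  | [], _, _ => ⟨List.nodup_nil, fun A hA => by simp at hA⟩
  | A :: As, seen, h => by
    simp only [keysOK, Bool.and_eq_true, Nat.beq_eq] at h
    obtain ⟨hn, hseen⟩ := keysOK_spec h.2
    have hA : seen.testBit (key A) = false := by
      have := congrArg (fun x => x.testBit (key A)) h.1
      simpa [Nat.testBit_and, Nat.testBit_two_pow] using this
    refine ⟨List.nodup_cons.2 ⟨fun hmem => ?_, hn⟩, fun B hB => ?_⟩
    · simpa [Nat.testBit_or, Nat.testBit_two_pow] using hseen A hmem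
    · rcases List.mem_cons.1 hB with rfl | hB'
      · exact hA
      · have := hseen B hB'
        simp only [Nat.testBit_or, Bool.or_eq_false_iff] at this
        exact this.1

theorem chain_bound : ∀ (ch : List (ℕ × List (List ℕ))) (F : List ℕ),
    (ch.all fun p => Nat.blt p.1 (2 ^ 24)) = true → chainOK F ch = true →
    chainLen ch ≤ Nat.card ↥(U ⊓ fixN F)
  | [], F, _, _ => Nat.card_pos
  | (v, ws) :: rest, F, hlt, h => by
    simp only [chainOK, Bool.and_eq_true, List.all_eq_true, Nat.beq_eq] at h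
    simp only [List.all_cons, Bool.and_eq_true, Nat.blt_eq] at hlt
    set H := U ⊓ fixN F with hH
    let x : W := ⟨v, hlt.1⟩
    have hmem : ∀ w ∈ ws, gw w ∈ H := fun w hw => by
      refine ⟨gw_mem_U (h.1.1 w hw).1, fun u hu => W.ext ?_⟩
      rw [act_gw]
      exact (h.1.1 w hw).2 _ hu
    have hstab : Nat.card ↥(U ⊓ fixN (v :: F)) ≤ Nat.card (MulAction.stabilizer H x) := by
      refine Nat.card_le_card_of_injective (fun g => ⟨⟨g.1, g.2.1, fun u hu =>
        g.2.2 u (List.mem_cons_of_mem _ hu)⟩, g.2.2 x List.mem_cons_self⟩) fun a b e => ?_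
      exact Subtype.ext (congrArg (fun t : MulAction.stabilizer H x => t.1.1) e)
    have horb : ws.length ≤ (MulAction.orbit H x).ncard := by
      classical
      have hn := nodupB_spec h.1.2
      let img : List W := ws.map fun w => act (gw w) x
      have himg : img.Nodup := by
        refine List.Nodup.of_map W.val ?_
        have e : img.map W.val = ws.map fun w => wapp w v := by
          rw [List.map_map]
          exact List.map_congr_left fun w _ => act_gw w x
        rwa [e]
      calc ws.length = img.toFinset.card := by rw [List.toFinset_card_of_nodup himg]; simp [img]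
        _ = (img.toFinset : Set W).ncard := (Set.ncard_coe_finset _).symm
        _ ≤ _ := Set.ncard_le_ncard (fun u hu => by
            obtain ⟨w, hw, rfl⟩ := List.mem_map.1 (List.mem_toFinset.1 hu)
            exact ⟨⟨gw w, hmem w hw⟩, rfl⟩) (Set.toFinite _)
    calc chainLen ((v, ws) :: rest) = ws.length * chainLen rest := rfl
      _ ≤ (MulAction.orbit H x).ncard * Nat.card (MulAction.stabilizer H x) :=
          Nat.mul_le_mul horb ((chain_bound rest (v :: F) hlt.2 h.2).trans hstab)
      _ = Nat.card H := by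
          rw [← MulAction.index_stabilizer, Subgroup.index_mul_card]

/-- the unipotent part of a stabiliser -/
def stabU (i : Fin 6) : Subgroup GW := U ⊓ fixN [rep i]

theorem stabU_le (i : Fin 6) : stabU i ≤ stab i :=
  fun _ hg => ⟨U_le hg.1, hg.2 (repW i) List.mem_cons_self⟩

theorem two_dvd {i : Fin 6} {ch : List (ℕ × List (List ℕ))}
    (hlt : (ch.all fun p => Nat.blt p.1 (2 ^ 24)) = true) (h : twoOK i ch = true) :
    Nat.gcd (hOrd i) (2 ^ 24) ∣ Nat.card (stabU i) := by
  simp only [twoOK, Bool.and_eq_true, Nat.beq_eq] at h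
  have hle := chain_bound ch [rep i] hlt h.1
  rw [h.2] at hle
  obtain ⟨k, hk⟩ : ∃ k, Nat.card (stabU i) = 2 ^ k :=
    (isPGroup_U.to_le (inf_le_left : stabU i ≤ U)).exists_card_eq
  obtain ⟨a, -, ha⟩ := (Nat.dvd_prime_pow Nat.prime_two).1 (Nat.gcd_dvd_right (hOrd i) (2 ^ 24))
  rw [ha] at hle ⊢
  change 2 ^ a ≤ Nat.card (stabU i) at hle
  rw [hk] at hle ⊢
  exact pow_dvd_pow 2 ((Nat.pow_le_pow_iff_right (by norm_num)).1 hle)

/-- a word in the generators of a stabiliser -/
def sw (sg : List (List ℕ)) (w : List ℕ) : GW := (w.map fun k => gw (sg.getD k [])).prod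

theorem sgL_getD (sg : List (List ℕ)) (k : ℕ) : (sgL sg).getD k oneL = wmat (sg.getD k []) :=
  List.getD_map sg [] wmat

theorem sgInvL_getD (sg : List (List ℕ)) (k : ℕ) :
    (sgInvL sg).getD k oneL = wmat (sg.getD k []).reverse :=
  List.getD_map sg [] fun w : List ℕ => wmat w.reverse

theorem mm_sw (sg : List (List ℕ)) (w : List ℕ) : mm (sw sg w) = tmat (sgL sg) w := by
  induction w with
  | nil => exact mm_one
  | cons k w ih =>
    show mm (gw (sg.getD k []) * sw sg w) = mulL ((sgL sg).getD k oneL) (tmat (sgL sg) w)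
    rw [mm_mul, mm_gw, ih, sgL_getD]

theorem sgen_mem {i : Fin 6} {sg : List (List ℕ)} (h : sgenOK i sg = true) (k : ℕ) :
    gw (sg.getD k []) ∈ stab i := by
  refine ⟨gw_mem _, W.ext ?_⟩
  show (act _ _).val = _
  rw [act_gw]
  by_cases hk : k < sg.length
  · simp only [sgenOK, List.all_eq_true, Bool.and_eq_true, Nat.beq_eq] at h
    rw [List.getD_eq_getElem _ _ hk]
    exact (h _ (List.getElem_mem hk)).1.2
  · rw [List.getD_eq_default _ _ (not_lt.1 hk)]
    rfl

theorem sw_mem {i : Fin 6} {sg : List (List ℕ)} (h : sgenOK i sg = true) (w : List ℕ) :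
    sw sg w ∈ stab i :=
  list_prod_mem fun x hx => by
    obtain ⟨k, -, rfl⟩ := List.mem_map.1 hx
    exact sgen_mem h k

theorem growN_mem {gs : List (List ℕ)} {K : Subgroup GW} (hgs : ∀ g ∈ gs, ∃ x ∈ K, mm x = g) :
    ∀ (n : ℕ), ∀ A ∈ growN gs n, ∃ x ∈ K, mm x = A
  | 0, A, hA => ⟨1, K.one_mem, by simp [growN] at hA; rw [hA, mm_one]⟩
  | n + 1, A, hA => by
    have ih := growN_mem hgs n
    have key : ∀ (M acc : List (List ℕ)), (∀ B ∈ M, ∃ x ∈ K, mm x = B) →
        (∀ B ∈ acc, ∃ x ∈ K, mm x = B) →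
        ∀ B ∈ M.foldl (fun acc A => if acc.contains A then acc else acc ++ [A]) acc,
          ∃ x ∈ K, mm x = B := by
      intro M
      induction M with
      | nil => exact fun acc _ ha => ha
      | cons C M ihM =>
        intro acc hM ha
        refine ihM (if acc.contains C then acc else acc ++ [C])
          (fun B hB => hM B (List.mem_cons_of_mem _ hB)) fun B hB => ?_
        split_ifs at hB with hc
        · exact ha B hB
        · rcases List.mem_append.1 hB with h1 | h1
          · exact ha B h1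
          · exact hM B (List.mem_singleton.1 h1 ▸ List.mem_cons_self)
    refine key _ _ (fun B hB => ?_) ih A hA
    obtain ⟨g, hg, hB⟩ := List.mem_flatMap.1 hB
    obtain ⟨C, hC, rfl⟩ := List.mem_map.1 hB
    obtain ⟨x, hx, rfl⟩ := hgs g hg
    obtain ⟨y, hy, rfl⟩ := ih C hC
    exact ⟨x * y, K.mul_mem hx hy, mm_mul x y⟩

/-- the subgroup generated by given words -/
def swClosure (sg pg : List (List ℕ)) : Subgroup GW :=
  Subgroup.closure {x | ∃ w ∈ pg, sw sg w = x}

theorem swClosure_le {i : Fin 6} {sg pg : List (List ℕ)} (h : sgenOK i sg = true) :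
    swClosure sg pg ≤ stab i := (Subgroup.closure_le _).2 fun x hx => by
  obtain ⟨w, -, rfl⟩ := hx
  exact sw_mem h w

/-- facts about the Sylow 3-subgroup -/
theorem syl_spec {i : Fin 6} {sg pg : List (List ℕ)} (h : sylOK i sg pg = true) :
    (∀ x ∈ swClosure sg pg, mm x ∈ growN (pg.map (tmat (sgL sg))) 8) ∧
      Nat.card (swClosure sg pg) = Nat.gcd (hOrd i) (3 ^ 24) := by
  classical
  simp only [sylOK, Bool.and_eq_true, Nat.beq_eq, List.contains_iff_mem, closedB,
    List.all_eq_true] at h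
  obtain ⟨⟨⟨hlen, hcl⟩, hkeys⟩, hone⟩ := h
  set P := growN (pg.map (tmat (sgL sg))) 8
  have hin : ∀ x ∈ swClosure sg pg, mm x ∈ P := by
    intro x hx
    rw [swClosure, ← Subgroup.mem_toSubmonoid,
      Subgroup.closure_toSubmonoid_of_finite] at hx
    induction hx using Submonoid.closure_induction_left with
    | one => rw [mm_one]; exact hone
    | mul_left a ha y _ ih =>
      obtain ⟨w, hw, rfl⟩ := ha
      rw [mm_mul, mm_sw]
      exact hcl _ (List.mem_map_of_mem hw) _ ih
  refine ⟨hin, ?_⟩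
  have hall := growN_mem (K := swClosure sg pg) (gs := pg.map (tmat (sgL sg))) (fun g hg => by
    obtain ⟨w, hw, rfl⟩ := List.mem_map.1 hg
    exact ⟨sw sg w, Subgroup.subset_closure ⟨w, hw, rfl⟩, mm_sw sg w⟩) 8
  rw [← hlen, ← List.toFinset_card_of_nodup (keysOK_spec hkeys).1, ← Set.ncard_coe_finset,
    ← Nat.card_coe_set_eq]
  refine Nat.card_eq_of_bijective (fun x => ⟨mm x.1, List.mem_toFinset.2 (hin _ x.2)⟩)
    ⟨fun a b e => Subtype.ext (mm_injective (congrArg Subtype.val e)), fun A => ?_⟩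
  obtain ⟨x, hx, e⟩ := hall A.1 (List.mem_toFinset.1 A.2)
  exact ⟨⟨x, hx⟩, Subtype.ext e⟩

theorem seven_spec {i : Fin 6} {sg : List (List ℕ)} {y : List ℕ × List ℕ}
    {z : List (ℕ × ℕ × List ℕ)} (hs : sgenOK i sg = true) (h : sevenOK i sg y z = true) :
    ∃ g ∈ stab i, mm g = y.1 ∧ orderOf g = 7 := by
  simp only [sevenOK, Bool.and_eq_true, beq_iff_eq, Bool.not_eq_true', beq_eq_false_iff_ne] at h
  obtain ⟨⟨⟨⟨hy, h7⟩, h1⟩, -⟩, -⟩ := h
  refine ⟨sw sg y.2, sw_mem hs _, (mm_sw _ _).trans hy, ?_⟩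
  have : Fact (Nat.Prime 7) := ⟨by norm_num⟩
  refine orderOf_eq_prime (mm_injective ?_) fun e => h1 ?_
  · rw [mm_pow, mm_sw, hy, h7, mm_one]
  · rw [← hy, ← mm_sw, e, mm_one]

end Cfsg.Agent.Grp.TM
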