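import Cfsg.Agent.Lib.Grp.TM.Ok

/-! Every element fixing a non-zero vector is fine. -/

set_option autoImplicit false
set_option maxRecDepth 100000

namespace Cfsg.Agent.Grp.TM

theorem conj_pow_cancel {x g : GW} (n : ℕ) : (x * g * x⁻¹) ^ n = x * g ^ n * x⁻¹ := conj_pow

/-- order three case -/
theorem three_case {i : Fin 6} {sg pg : List (List ℕ)} {ys : List (List ℕ × List ℕ)}
    {cs : List (List ℕ × ℕ × List ℕ)} (hs : sgenOK i sg = true)
    (hc : Nat.card (stab i) = hOrd i) (hsyl : sylOK i sg pg = true)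
    (hidx : ¬ 3 ∣ hOrd i / Nat.gcd (hOrd i) (3 ^ 24)) (hp : pconjOK sg pg ys cs = true)
    (hcent : ∀ j < ys.length, ∃ cg ce z, centOK i sg (ys.getD j ([], [])).1 cg ce z = true)
    {g : GW} (hg : g ∈ stab i) (h3 : 3 ∣ orderOf g) : Ok g := by
  have : Fact (Nat.Prime 3) := ⟨by norm_num⟩
  set y0 := g ^ (orderOf g / 3)
  have ho : orderOf y0 = 3 := orderOf_pow_orderOf_div (orderOf_pos g).ne' h3
  have hS : IsPGroup 3 (swClosure sg pg) := IsPGroup.iff_card.2 (by
    obtain ⟨a, -, ha⟩ := (Nat.dvd_prime_pow (by norm_num : Nat.Prime 3)).1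
      (Nat.gcd_dvd_right (hOrd i) (3 ^ 24))
    exact ⟨a, (syl_spec hsyl).2.trans ha⟩)
  obtain ⟨x, hx, hxy⟩ := exists_conj_mem 3 (swClosure_le hs) hS
    (by rw [hc, (syl_spec hsyl).2]; exact hidx) ((stab i).pow_mem hg (orderOf g / 3))
    ⟨1, by have h := pow_orderOf_eq_one y0; rw [ho] at h; rw [pow_one]; exact h⟩
  have hin := (syl_spec hsyl).1 _ hxy
  simp only [pconjOK, Bool.and_eq_true, List.all_eq_true, Bool.or_eq_true, beq_iff_eq,
    List.any_eq_true, Nat.blt_eq, Bool.not_eq_true', beq_eq_false_iff_ne] at hp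
  obtain ⟨⟨hys, hcs⟩, hall⟩ := hp
  have hne : mm (x * y0 * x⁻¹) ≠ oneL := fun e => by
    have := mm_injective (e.trans mm_one.symm)
    rw [conj_eq_one_iff] at this
    simp [this] at ho
  have hcube : powL (mm (x * y0 * x⁻¹)) 3 = oneL := by
    rw [← mm_pow, conj_pow_cancel, ← ho, pow_orderOf_eq_one, mul_one, mul_inv_cancel, mm_one]
  rcases hall _ hin with (h | h) | ⟨c, hc', hce⟩
  · exact absurd h hne
  · exact absurd hcube h
  obtain ⟨hlt, hconj⟩ := hcs c hc'
  obtain ⟨cg, ce, z, hcz⟩ := hcent _ hlt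
  have hy := (hys _ (by rw [List.getD_eq_getElem _ _ hlt]; exact List.getElem_mem hlt :
    ys.getD c.2.1 ([], []) ∈ ys)).1
  set y := sw sg (ys.getD c.2.1 ([], [])).2 with hydef
  have hmy : mm y = (ys.getD c.2.1 ([], [])).1 := (mm_sw _ _).trans hy
  set s := sw sg c.2.2
  have hsy : s * y = x * y0 * x⁻¹ * s := by
    refine mm_injective ?_
    rw [mm_mul, mm_mul _ s, mm_sw, hmy, ← hce]
    exact hconj
  refine ok_conj (x := s⁻¹ * x) (cent_spec hs hc (y := y) (hmy ▸ hcz) (mem_cen.2 ⟨?_, ?_⟩))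
  · have hsx : s⁻¹ * x ∈ stab i := (stab i).mul_mem ((stab i).inv_mem (sw_mem hs _)) hx
    exact (stab i).mul_mem ((stab i).mul_mem hsx hg) ((stab i).inv_mem hsx)
  · have e : y = (s⁻¹ * x * g * (s⁻¹ * x)⁻¹) ^ (orderOf g / 3) := by
      rw [conj_pow_cancel]
      calc y = s⁻¹ * (s * y) := by simp
        _ = _ := by rw [hsy]; simp [y0, mul_assoc]
    rw [e]
    exact Commute.self_pow _ _

/-- order seven case -/
theorem seven_case {i : Fin 6} {sg : List (List ℕ)} {y7 : List ℕ × List ℕ}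
    {z : List (ℕ × ℕ × List ℕ)} (hs : sgenOK i sg = true) (hc : Nat.card (stab i) = hOrd i)
    (h : sevenOK i sg y7 z = true) (hidx : ¬ 7 ∣ hOrd i / 7)
    {g : GW} (hg : g ∈ stab i) (h3 : ¬ 3 ∣ orderOf g) (h7 : 7 ∣ orderOf g) : Ok g := by
  have : Fact (Nat.Prime 7) := ⟨by norm_num⟩
  obtain ⟨y, hy, hmy, hoy⟩ := seven_spec hs h
  simp only [sevenOK, Bool.and_eq_true, Nat.blt_eq] at h
  obtain ⟨⟨-, hlt⟩, hconj⟩ := h
  have hbound := conj_spec hs (y := y) (hmy ▸ hconj)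
  rw [hc] at hbound
  have hC : Nat.card (cen i y) < 28 :=
    Nat.lt_of_mul_lt_mul_left (a := z.length + 1) (by linarith)
  set y0 := g ^ (orderOf g / 7)
  have ho : orderOf y0 = 7 := orderOf_pow_orderOf_div (orderOf_pos g).ne' h7
  have hS : IsPGroup 7 (Subgroup.zpowers y) :=
    IsPGroup.iff_card.2 ⟨1, by rw [Nat.card_zpowers, hoy, pow_one]⟩
  obtain ⟨x, hx, hxy⟩ := exists_conj_mem 7 ((Subgroup.zpowers_le).2 hy) hS
    (by rw [hc, Nat.card_zpowers, hoy]; exact hidx) ((stab i).pow_mem hg (orderOf g / 7))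
    ⟨1, by have h := pow_orderOf_eq_one y0; rw [ho] at h; rw [pow_one]; exact h⟩
  set g' := x * g * x⁻¹ with hg'
  have hz : Subgroup.zpowers (x * y0 * x⁻¹) = Subgroup.zpowers y := by
    refine Subgroup.eq_of_le_of_card_ge (Subgroup.zpowers_le.2 hxy) (le_of_eq ?_)
    rw [Nat.card_zpowers, Nat.card_zpowers, hoy, ← ho]
    exact (orderOf_injective (MulAut.conj x).toMonoidHom (MulAut.conj x).injective y0).symm
  obtain ⟨j, hj⟩ := (hz ▸ Subgroup.mem_zpowers y : y ∈ Subgroup.zpowers (x * y0 * x⁻¹))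
  have hcomm : g' ∈ cen i y := by
    refine mem_cen.2 ⟨(stab i).mul_mem ((stab i).mul_mem hx hg) ((stab i).inv_mem hx), ?_⟩
    have hj' : (x * y0 * x⁻¹) ^ j = y := hj
    rw [← hj', ← conj_pow_cancel]
    exact ((Commute.self_pow g' _).zpow_right j).eq
  have he : orderOf g' = orderOf g :=
    orderOf_injective (MulAut.conj x).toMonoidHom (MulAut.conj x).injective g
  have hdvd : orderOf g ∣ Nat.card (cen i y) := he ▸ Subgroup.orderOf_dvd_natCard (cen i y) hcomm
  have hle := Nat.le_of_dvd Nat.card_pos hdvd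
  obtain ⟨k, hk⟩ := h7
  left
  rw [hk] at h3 hle ⊢
  have : k = 1 ∨ k = 2 := by
    have hk0 : k ≠ 0 := fun e => (orderOf_pos g).ne' (by rw [hk, e, mul_zero])
    rcases (by omega : k = 1 ∨ k = 2 ∨ k = 3) with e | e | e
    · exact Or.inl e
    · exact Or.inr e
    · exact absurd ⟨7, by rw [e]⟩ h3
  rcases this with rfl | rfl <;> decide

/-- two-power case -/
theorem two_case {i : Fin 6} {ch : List (ℕ × List (List ℕ))}
    (hlt : (ch.all fun p => Nat.blt p.1 (2 ^ 24)) = true) (h2 : twoOK i ch = true)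
    (hc : Nat.card (stab i) = hOrd i) (hidx : ¬ 2 ∣ hOrd i / Nat.gcd (hOrd i) (2 ^ 24))
    {g : GW} (hg : g ∈ stab i) (hp : ∃ k, g ^ 2 ^ k = 1) : Ok g := by
  have hdvd := two_dvd hlt h2
  have hcard : Nat.card (stabU i) = Nat.gcd (hOrd i) (2 ^ 24) := by
    refine Nat.dvd_antisymm (Nat.dvd_gcd (hc ▸ Subgroup.card_dvd_of_le (stabU_le i)) ?_) hdvd
    obtain ⟨k, hk⟩ := (isPGroup_U.to_le (inf_le_left : stabU i ≤ U)).exists_card_eq
    have hle : Nat.card (stabU i) ∣ hOrd i := hc ▸ Subgroup.card_dvd_of_le (stabU_le i)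
    have hk' : Nat.card (stabU i) = 2 ^ k := hk
    rw [hk'] at hle ⊢
    refine pow_dvd_pow 2 ?_
    by_contra hlt'
    obtain ⟨_, e⟩ := (pow_dvd_pow 2 (le_of_lt (not_le.1 hlt') : 24 ≤ k)).trans hle
    have hb : hOrd i < 2 ^ 24 ∧ 0 < hOrd i := by fin_cases i <;> decide +kernel
    have := Nat.le_of_dvd hb.2 ⟨_, e⟩
    omega
  obtain ⟨x, -, hxg⟩ := exists_conj_mem 2 (stabU_le i)
    (isPGroup_U.to_le (inf_le_left : stabU i ≤ U)) (by rw [hc, hcard]; exact hidx) hg hp
  exact ok_conj (ok_tri (tri_U hxg.1))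

theorem two_pow_of_dvd {n h : ℕ} (hdvd : n ∣ h) (h3 : ¬ 3 ∣ n) (h7 : ¬ 7 ∣ n)
    (hh : h ∣ 2 ^ 24 * (3 ^ 24 * 7)) : ∃ k, n = 2 ^ k := by
  have hc : Nat.Coprime n (3 ^ 24 * 7) := Nat.Coprime.mul_right
    (((Nat.Prime.coprime_iff_not_dvd (by norm_num)).2 h3).symm.pow_right 24)
    ((Nat.Prime.coprime_iff_not_dvd (by norm_num)).2 h7).symm
  obtain ⟨k, -, hk⟩ := (Nat.dvd_prime_pow Nat.prime_two).1
    (hc.dvd_of_dvd_mul_right (hdvd.trans hh))
  exact ⟨k, hk⟩

theorem hOrd_dvd_bound (i : Fin 6) : hOrd i ∣ 2 ^ 24 * (3 ^ 24 * 7) := by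
  refine Nat.dvd_of_mod_eq_zero ?_
  fin_cases i <;> decide +kernel

theorem ok_stab (hG : Nat.card G0 = 211341312) {i : Fin 6} {g : GW} (hg : g ∈ stab i) :
    Ok g := by
  have hc := card_stab hG i
  have hdvd : orderOf g ∣ hOrd i := hc ▸ Subgroup.orderOf_dvd_natCard (stab i) hg
  obtain ⟨l0, l1, l2, l3, l4, l5⟩ := chain_lt'
  have no7 : Nat.gcd (hOrd i) 7 = 1 → ¬ 7 ∣ orderOf g := fun e h => by
    simpa [e] using Nat.dvd_gcd (h.trans hdvd) (dvd_refl 7)
  have two : ∀ {ch : List (ℕ × List (List ℕ))},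
      (ch.all fun p => Nat.blt p.1 (2 ^ 24)) = true → twoOK i ch = true →
      ¬ 2 ∣ hOrd i / Nat.gcd (hOrd i) (2 ^ 24) → ¬ 3 ∣ orderOf g → ¬ 7 ∣ orderOf g → Ok g := by
    intro ch hl h2 hi h3 h7
    obtain ⟨k, hk⟩ := two_pow_of_dvd hdvd h3 h7 (hOrd_dvd_bound i)
    exact two_case hl h2 hc hi hg ⟨k, hk ▸ pow_orderOf_eq_one g⟩
  by_cases h3 : 3 ∣ orderOf g
  · fin_cases i
    · refine three_case sgen0_ok hc syl0_ok (by decide +kernel) pconj0_ok (fun j hj => ?_) hg h3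
      have hl : yTab0.length = 1 := by decide +kernel
      obtain rfl : j = 0 := by omega
      exact ⟨_, _, _, cent0_0_ok⟩
    · refine absurd (h3.trans hdvd) ?_
      decide +kernel
    · refine three_case sgen2_ok hc syl2_ok (by decide +kernel) pconj2_ok (fun j hj => ?_) hg h3
      have hl : yTab2.length = 1 := by decide +kernel
      obtain rfl : j = 0 := by omega
      exact ⟨_, _, _, cent2_0_ok⟩
    · refine three_case sgen3_ok hc syl3_ok (by decide +kernel) pconj3_ok (fun j hj => ?_) hg h3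
      have hl : yTab3.length = 2 := by decide +kernel
      rcases (by omega : j = 0 ∨ j = 1) with rfl | rfl
      · exact ⟨_, _, _, cent3_0_ok⟩
      · exact ⟨_, _, _, cent3_1_ok⟩
    · refine three_case sgen4_ok hc syl4_ok (by decide +kernel) pconj4_ok (fun j hj => ?_) hg h3
      have hl : yTab4.length = 1 := by decide +kernel
      obtain rfl : j = 0 := by omega
      exact ⟨_, _, _, cent4_0_ok⟩
    · refine three_case sgen5_ok hc syl5_ok (by decide +kernel) pconj5_ok (fun j hj => ?_) hg h3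
      have hl : yTab5.length = 3 := by decide +kernel
      rcases (by omega : j = 0 ∨ j = 1 ∨ j = 2) with rfl | rfl | rfl
      · exact ⟨_, _, _, cent5_0_ok⟩
      · exact ⟨_, _, _, cent5_1_ok⟩
      · exact ⟨_, _, _, cent5_2_ok⟩
  by_cases h7 : 7 ∣ orderOf g
  · fin_cases i
    · exact absurd h7 (no7 (by decide +kernel))
    · exact absurd h7 (no7 (by decide +kernel))
    · exact seven_case sgen2_ok hc seven2_ok (by decide +kernel) hg h3 h7
    · exact seven_case sgen3_ok hc seven3_ok (by decide +kernel) hg h3 h7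
    · exact absurd h7 (no7 (by decide +kernel))
    · exact absurd h7 (no7 (by decide +kernel))
  fin_cases i
  · exact two l0 two0_ok (by decide +kernel) h3 h7
  · exact two l1 two1_ok (by decide +kernel) h3 h7
  · exact two l2 two2_ok (by decide +kernel) h3 h7
  · exact two l3 two3_ok (by decide +kernel) h3 h7
  · exact two l4 two4_ok (by decide +kernel) h3 h7
  · exact two l5 two5_ok (by decide +kernel) h3 h7

theorem ok_fix (hG : Nat.card G0 = 211341312) {g : GW} (hg : g ∈ G0) {v : W} (hv : v ≠ 0)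
    (hfix : act g v = v) : Ok g := by
  obtain ⟨i, k, x, hx, rfl⟩ := good_all hv
  refine ok_conj (x := x⁻¹) (ok_stab hG (i := i) ⟨?_, ?_⟩)
  · simpa using G0.mul_mem (G0.mul_mem (G0.inv_mem hx) hg) hx
  · have hy : x⁻¹ * g * x⁻¹⁻¹ ∈ G0 := by
      simpa using G0.mul_mem (G0.mul_mem (G0.inv_mem hx) hg) hx
    show act (x⁻¹ * g * x⁻¹⁻¹) (repW i) = repW i
    refine (MulAction.injective (zz ^ k) : Function.Injective ((zz ^ k : GW) • · : W → W)) ?_
    show act (zz ^ k) _ = act (zz ^ k) _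
    rw [← act_mul, (zz_comm hy k).eq, act_mul, inv_inv, act_mul, act_mul, hfix, ← act_mul x⁻¹,
      inv_mul_cancel, act_one]

theorem good_of_norm (hG : Nat.card G0 = 211341312) {g : GW} (hg : g ∈ G0) {v : W}
    (h : Nsum g (orderOf g) v ≠ 0) : orderOf g ∈ good := by
  refine (ok_fix hG hg h ?_).resolve_right fun hz => h (hz v)
  set n := orderOf g
  have e1 : Nsum g n v + act (g ^ n) v = act g (Nsum g n v) + v := by
    have a := Finset.sum_range_succ (fun k => act (g ^ k) v) n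
    have b := Finset.sum_range_succ' (fun k => act (g ^ k) v) n
    rw [a] at b
    simp only [Nsum, act_sum, ← act_mul, ← pow_succ']
    simpa using b
  rw [pow_orderOf_eq_one, act_one] at e1
  exact (add_right_cancel e1).symm

end Cfsg.Agent.Grp.TM
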