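import Cfsg.Agent.Lib.Grp.TM.Comp

/-! The orbit certificate. -/

set_option autoImplicit false
set_option maxRecDepth 100000

namespace Cfsg.Agent.Grp.TM

theorem cov1_ok : covOK 1 pref1 wit1 pref2 = true := by decide +kernel
theorem cov2_ok : covOK 2 pref2 wit2 pref3 = true := by decide +kernel
theorem cov3_ok : covOK 3 pref3 wit3 pref4 = true := by decide +kernel
theorem cov4_ok : covOK 4 pref4 wit4 pref5 = true := by decide +kernel
theorem cov5_ok : covOK 5 pref5 wit5 pref6 = true := by decide +kernel
theorem cov6_ok : covOK 6 pref6 wit6 pref7 = true := by decide +kernel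
theorem cov7_ok : covOK 7 pref7 wit7 pref8 = true := by decide +kernel
theorem leaf_ok : leafOK pref8 leafTab = true := by decide +kernel
theorem sing_ok : singOK = true := by decide +kernel
theorem span_ok : spanOK = true := by decide +kernel
theorem scal_ok : scalOK = true := by decide +kernel
theorem tri_ok : triOK = true := by decide +kernel

theorem ord_ok : (ordTab.all fun p => isG p.2 &&
    (powL (wmat p.2) p.1 == oneL) &&
      ((List.range p.1).all fun k => Nat.beq k 0 || !(powL (wmat p.2) k == oneL))) = true := by
  decide +kernel

end Cfsg.Agent.Grp.TM
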