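import Cfsg.Agent.Lib.Grp.TM.StabComp

/-! Certificate of stabiliser 0. -/

set_option autoImplicit false
set_option maxRecDepth 100000

namespace Cfsg.Agent.Grp.TM

theorem sgen0_ok : sgenOK 0 sgen0 = true := by decide +kernel
theorem two0_ok : twoOK 0 chain0 = true := by decide +kernel
theorem syl0_ok : sylOK 0 sgen0 pgen0 = true := by decide +kernel
theorem pconj0_ok : pconjOK sgen0 pgen0 yTab0 pconj0 = true := by decide +kernel
theorem cent0_0_ok : centOK 0 sgen0 (yTab0.getD 0 ([], [])).1 cgen0_0 cel0_0 zel0_0 = true := by decide +kernel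

end Cfsg.Agent.Grp.TM
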