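import Cfsg.Agent.Lib.Grp.TM.StabComp

/-! Certificate of stabiliser 1. -/

set_option autoImplicit false
set_option maxRecDepth 100000

namespace Cfsg.Agent.Grp.TM

theorem sgen1_ok : sgenOK 1 sgen1 = true := by decide +kernel
theorem two1_ok : twoOK 1 chain1 = true := by decide +kernel

end Cfsg.Agent.Grp.TM
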