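import Cfsg.Agent.Lib.Grp.TM.StabComp

/-! Certificate of stabiliser 2. -/

set_option autoImplicit false
set_option maxRecDepth 100000

namespace Cfsg.Agent.Grp.TM

theorem sgen2_ok : sgenOK 2 sgen2 = true := by decide +kernel
theorem two2_ok : twoOK 2 chain2 = true := by decide +kernel
theorem syl2_ok : sylOK 2 sgen2 pgen2 = true := by decide +kernel
theorem pconj2_ok : pconjOK sgen2 pgen2 yTab2 pconj2 = true := by decide +kernel
theorem cent2_0_ok : centOK 2 sgen2 (yTab2.getD 0 ([], [])).1 cgen2_0 cel2_0 zel2_0 = true := by decide +kernel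
theorem seven2_ok : sevenOK 2 sgen2 y7_2 z7_2 = true := by decide +kernel

end Cfsg.Agent.Grp.TM
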