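import Cfsg.Agent.Lib.Grp.TM.StabComp

/-! Certificate of stabiliser 3. -/

set_option autoImplicit false
set_option maxRecDepth 100000

namespace Cfsg.Agent.Grp.TM

theorem sgen3_ok : sgenOK 3 sgen3 = true := by decide +kernel
theorem two3_ok : twoOK 3 chain3 = true := by decide +kernel
theorem syl3_ok : sylOK 3 sgen3 pgen3 = true := by decide +kernel
theorem pconj3_ok : pconjOK sgen3 pgen3 yTab3 pconj3 = true := by decide +kernel
theorem cent3_0_ok : centOK 3 sgen3 (yTab3.getD 0 ([], [])).1 cgen3_0 cel3_0 zel3_0 = true := by decide +kernel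
theorem cent3_1_ok : centOK 3 sgen3 (yTab3.getD 1 ([], [])).1 cgen3_1 cel3_1 zel3_1 = true := by decide +kernel
theorem seven3_ok : sevenOK 3 sgen3 y7_3 z7_3 = true := by decide +kernel

end Cfsg.Agent.Grp.TM
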