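import Cfsg.Agent.Lib.Grp.TM.StabComp

/-! Certificate of stabiliser 4. -/

set_option autoImplicit false
set_option maxRecDepth 100000

namespace Cfsg.Agent.Grp.TM

theorem sgen4_ok : sgenOK 4 sgen4 = true := by decide +kernel
theorem two4_ok : twoOK 4 chain4 = true := by decide +kernel
theorem syl4_ok : sylOK 4 sgen4 pgen4 = true := by decide +kernel
theorem pconj4_ok : pconjOK sgen4 pgen4 yTab4 pconj4 = true := by decide +kernel
theorem cent4_0_ok : centOK 4 sgen4 (yTab4.getD 0 ([], [])).1 cgen4_0 cel4_0 zel4_0 = true := by decide +kernel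

end Cfsg.Agent.Grp.TM
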