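import Cfsg.Agent.Lib.Grp.TM.StabComp

/-! Certificate of stabiliser 5. -/

set_option autoImplicit false
set_option maxRecDepth 100000

namespace Cfsg.Agent.Grp.TM

theorem sgen5_ok : sgenOK 5 sgen5 = true := by decide +kernel
theorem two5_ok : twoOK 5 chain5 = true := by decide +kernel
theorem syl5_ok : sylOK 5 sgen5 pgen5 = true := by decide +kernel
theorem pconj5_ok : pconjOK sgen5 pgen5 yTab5 pconj5 = true := by decide +kernel
theorem cent5_0_ok : centOK 5 sgen5 (yTab5.getD 0 ([], [])).1 cgen5_0 cel5_0 zel5_0 = true := by decide +kernel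
theorem cent5_1_ok : centOK 5 sgen5 (yTab5.getD 1 ([], [])).1 cgen5_1 cel5_1 zel5_1 = true := by decide +kernel
theorem cent5_2_ok : centOK 5 sgen5 (yTab5.getD 2 ([], [])).1 cgen5_2 cel5_2 zel5_2 = true := by decide +kernel

end Cfsg.Agent.Grp.TM
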