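import Cfsg.Agent.Lib.Grp.TM.Vec
import Cfsg.Agent.Lib.Grp.TM.OrbitData

/-! The computable tests of the certificate. -/

set_option autoImplicit false

namespace Cfsg.Agent.Grp.TM

/-- a generator -/
def genL (i : ℕ) : List ℕ := genTab.getD i oneL

/-- a word applied to a vector -/
def wapp (w : List ℕ) (v : ℕ) : ℕ := w.foldr (fun i x => app (genL i) x) v

/-- the matrix of a word -/
def wmat (w : List ℕ) : List ℕ := w.foldr (fun i A => mulL (genL i) A) oneL

/-- the matrix of a word in the given matrices -/
def tmat (tab : List (List ℕ)) (w : List ℕ) : List ℕ :=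
  w.foldr (fun i A => mulL (tab.getD i oneL) A) oneL

/-- only unipotent generators -/
def isU (w : List ℕ) : Bool := w.all fun i => Nat.beq i 0 || (Nat.ble 2 i && Nat.ble i 8)

/-- only generators -/
def isG (w : List ℕ) : Bool := w.all fun i => Nat.blt i 16

/-- scalar multiplication -/
def scalL (c : ℕ) : List ℕ := scalTab.getD (c - 1) oneL

/-- the representative -/
def rep (i : ℕ) : ℕ := repTab.getD i 0

/-- the order of a stabiliser -/
def hOrd (i : ℕ) : ℕ := hTab.getD i 0

/-- covering of one level by the next -/
def covOK (d : ℕ) : List ℕ → List (List (ℕ × List ℕ)) → List ℕ → Bool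
  | [], _, _ => true
  | r :: rs, row :: rows, R' =>
      ((List.range 8).all fun c =>
        let p := row.getD c (R'.length, [])
        isU p.2 && Nat.blt p.1 R'.length &&
          Nat.beq (wapp p.2 (r + c * 2 ^ (3 * d)) % 2 ^ (3 * d + 3)) (R'.getD p.1 0)) &&
      covOK d rs rows R'
  | _ :: _, [], _ => false

/-- orbits of the leaves -/
def leafOK : List ℕ → List (ℕ × ℕ × List ℕ) → Bool
  | [], _ => true
  | v :: vs, (i, c, w) :: ts =>
      Nat.blt i 6 && Nat.ble 1 c && Nat.ble c 7 && isG w &&
        Nat.beq (wapp w (app (scalL c) (rep i))) v && leafOK vs ts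
  | _ :: _, [] => false

/-- scalars on the singular representatives -/
def singOK : Bool :=
  (List.range 3).all fun i => isG (singTab.getD i []) &&
    Nat.beq (wapp (singTab.getD i []) (rep i)) (app (scalL 2) (rep i))

/-- the first coordinates of the images -/
def pack : List (List ℕ) → ℕ → ℕ
  | [], _ => 0
  | w :: ws, v => wapp w v % 8 + 8 * pack ws v

/-- the spanning set has a left inverse -/
def spanOK : Bool :=
  spanTab.all isG &&
    (List.range 24).all fun j => Nat.beq (app spanInv (pack spanTab (2 ^ j))) (2 ^ j)

/-- powers of a matrix -/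
def powL (A : List ℕ) : ℕ → List ℕ
  | 0 => oneL
  | n + 1 => mulL A (powL A n)

/-- scalars commute with the generators and are powers of one of them -/
def scalOK : Bool :=
  (genTab.all fun g => mulL (scalL 2) g == mulL g (scalL 2)) &&
    ((List.range 8).all fun c => Nat.beq c 0 ||
      (List.range 7).any fun k => scalL c == powL (scalL 2) k)

/-- a unipotent generator respects the filtration -/
def triOK : Bool :=
  (List.range 16).all fun i => (!isU [i]) ||
    ((List.range 24).all fun j =>
      let k := if Nat.ble 9 j && Nat.ble j 11 then 15 else 3 * (j / 3) + 3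
      Nat.beq ((app (genL i) (2 ^ j) ^^^ 2 ^ j) % 2 ^ k) 0)

/-- pairwise distinct -/
def nodupB : List ℕ → Bool
  | [] => true
  | a :: as => (as.all fun b => !Nat.beq a b) && nodupB as

/-- an orbit chain -/
def chainOK : List ℕ → List (ℕ × List (List ℕ)) → Bool
  | _, [] => true
  | F, (v, ws) :: rest =>
      (ws.all fun w => isU w && F.all fun f => Nat.beq (wapp w f) f) &&
        nodupB (ws.map fun w => wapp w v) && chainOK (v :: F) rest

/-- the product of the lengths -/
def chainLen : List (ℕ × List (List ℕ)) → ℕ
  | [] => 1
  | (_, ws) :: rest => ws.length * chainLen rest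

/-- every entry is obtained from an earlier one -/
def treeOK (f : ℕ → List ℕ → List ℕ) : List (ℕ × ℕ × List ℕ) → List (List ℕ) → ℕ → Bool
  | [], _, _ => true
  | (p, g, M) :: rest, done, n =>
      Nat.blt p n && f g (done.getD (n - 1 - p) oneL) == M && treeOK f rest (M :: done) (n + 1)

/-- a hash -/
def key (A : List ℕ) : ℕ := A.foldl (fun a c => (a * 31 + c) % 262139) 0

/-- distinct hashes -/
def keysOK : List (List ℕ) → ℕ → Bool
  | [], _ => true
  | A :: As, seen =>
      Nat.beq (seen &&& (2 ^ key A)) 0 && keysOK As (seen ||| 2 ^ key A)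

/-- the good orders -/
def good : List ℕ := [1, 2, 3, 4, 6, 7, 14]

/-- a column of zeros -/
def zeroL (S : List ℕ) : Bool := S.all fun c => Nat.beq c 0

/-- order and norm test: `P` is the power `n`, `S` the sum of the smaller powers -/
def okFrom (A : List ℕ) : ℕ → ℕ → List ℕ → List ℕ → Bool
  | 0, _, _, _ => false
  | fuel + 1, n, P, S =>
      if P == oneL then good.contains n || zeroL S
      else okFrom A fuel (n + 1) (mulL A P) (addL S P)

/-- the test for one element -/
def okM (A : List ℕ) : Bool := okFrom A 30 1 A oneL

/-- closure under left multiplication -/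
def closedB (gs L : List (List ℕ)) : Bool := gs.all fun g => L.all fun A => L.contains (mulL g A)

/-- one round of growth -/
def grow (gs L : List (List ℕ)) : List (List ℕ) :=
  (gs.flatMap fun g => L.map (mulL g)).foldl (fun acc A => if acc.contains A then acc else acc ++ [A]) L

/-- growth -/
def growN (gs : List (List ℕ)) : ℕ → List (List ℕ)
  | 0 => [oneL]
  | n + 1 => grow gs (growN gs n)

end Cfsg.Agent.Grp.TM
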