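import Cfsg.Agent.Lib.Grp.TM.CheckOrbit

/-! The group generated by the sixteen matrices, and the unipotent part. -/

set_option autoImplicit false
set_option maxRecDepth 100000

namespace Cfsg.Agent.Grp.TM

/-- automorphisms of the space -/
abbrev GW : Type := MulAut (Multiplicative W)

/-- as an additive map -/
def ae (g : GW) : W ≃+ W := AddEquiv.toMultiplicative.symm g

/-- the action -/
def act (g : GW) (v : W) : W := ae g v

/-- the matrix -/
def mm (g : GW) : List ℕ := mat (ae g)

theorem ae_mul (g h : GW) : ae (g * h) = (ae h).trans (ae g) := AddEquiv.ext fun _ => rfl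

@[simp] theorem act_mul (g h : GW) (v : W) : act (g * h) v = act g (act h v) := rfl
@[simp] theorem act_one (v : W) : act 1 v = v := rfl
@[simp] theorem act_add (g : GW) (u v : W) : act g (u + v) = act g u + act g v := map_add (ae g) u v
@[simp] theorem act_zero (g : GW) : act g 0 = 0 := map_zero (ae g)

theorem mm_mul (g h : GW) : mm (g * h) = mulL (mm g) (mm h) := by rw [mm, ae_mul, mat_trans]; rfl

theorem mm_one : mm 1 = oneL := mat_one

theorem app_mm (g : GW) (v : W) : app (mm g) v.val = (act g v).val := app_mat _ v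

theorem mm_injective : Function.Injective mm := fun g h e => by
  have := mat_injective e
  exact AddEquiv.toMultiplicative.symm.injective this

theorem app_oneL {v : ℕ} (hv : v < 2 ^ 24) : app oneL v = v := by
  have := app_mm 1 ⟨v, hv⟩
  rwa [mm_one] at this

theorem gen_data : (genTab.all fun g => (g.all fun c => Nat.blt c (2 ^ 24)) &&
    Nat.beq g.length 24 && (mulL g g == oneL)) = true := by
  decide +kernel

theorem genL_spec (i : ℕ) : (∀ c ∈ genL i, c < 2 ^ 24) ∧ (genL i).length = 24 ∧
    mulL (genL i) (genL i) = oneL := by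
  by_cases h : i < genTab.length
  · have h' := List.all_eq_true.1 gen_data _ (List.getElem_mem h)
    have e : genL i = genTab[i] := by simp [genL, h]
    simp only [Bool.and_eq_true, List.all_eq_true, Nat.blt_eq, Nat.beq_eq, beq_iff_eq] at h'
    exact e ▸ ⟨h'.1.1, h'.1.2, h'.2⟩
  · have e : genL i = oneL := by
      simp [genL, List.getD_eq_getElem?_getD, List.getElem?_eq_none (not_lt.1 h)]
    rw [e]
    exact ⟨by decide, rfl, by decide +kernel⟩

/-- a generator as a map -/
def genE (i : ℕ) : W ≃+ W where
  toFun v := ⟨app (genL i) v.val, app_lt (genL_spec i).1 _⟩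
  invFun v := ⟨app (genL i) v.val, app_lt (genL_spec i).1 _⟩
  left_inv v := W.ext (by
    show app (genL i) (app (genL i) v.val) = v.val
    rw [← app_mulL, (genL_spec i).2.2, app_oneL v.lt])
  right_inv v := W.ext (by
    show app (genL i) (app (genL i) v.val) = v.val
    rw [← app_mulL, (genL_spec i).2.2, app_oneL v.lt])
  map_add' u v := W.ext (app_xor _ _ _)

/-- a generator -/
def gen (i : ℕ) : GW := AddEquiv.toMultiplicative (genE i)

theorem act_gen (i : ℕ) (v : W) : (act (gen i) v).val = app (genL i) v.val := rfl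

theorem mm_gen (i : ℕ) : mm (gen i) = genL i := by
  refine List.ext_getElem (by simp [mm, length_mat, (genL_spec i).2.1]) fun j h1 h2 => ?_
  have hj : j < 24 := by simpa [mm, length_mat] using h1
  simp only [mm, mat, List.getElem_ofFn]
  show app (genL i) (2 ^ j) = _
  rw [app_two_pow]
  simp [h2]

theorem gen_mul_self (i : ℕ) : gen i * gen i = 1 :=
  mm_injective (by rw [mm_mul, mm_gen, mm_one, (genL_spec i).2.2])

/-- the group -/
def G0 : Subgroup GW := Subgroup.closure (Set.range gen)

theorem gen_mem (i : ℕ) : gen i ∈ G0 := Subgroup.subset_closure ⟨i, rfl⟩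

/-- the element of a word -/
def gw (w : List ℕ) : GW := (w.map gen).prod

theorem gw_mem (w : List ℕ) : gw w ∈ G0 :=
  list_prod_mem fun x hx => by
    obtain ⟨i, -, rfl⟩ := List.mem_map.1 hx
    exact gen_mem i

theorem act_gw (w : List ℕ) : ∀ v : W, (act (gw w) v).val = wapp w v.val := by
  induction w with
  | nil => intro; rfl
  | cons i w ih =>
    intro v
    show (act (gen i * gw w) v).val = app (genL i) (wapp w v.val)
    rw [act_mul, act_gen, ih]

theorem mm_gw (w : List ℕ) : mm (gw w) = wmat w := by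
  induction w with
  | nil => exact mm_one
  | cons i w ih =>
    show mm (gen i * gw w) = mulL (genL i) (wmat w)
    rw [mm_mul, mm_gen, ih]

theorem gw_reverse (w : List ℕ) : gw w * gw w.reverse = 1 := by
  induction w with
  | nil => simp [gw]
  | cons i w ih =>
    simp only [gw, List.map_cons, List.prod_cons, List.reverse_cons, List.map_append,
      List.map_nil, List.prod_append, List.prod_nil, mul_one] at ih ⊢
    rw [mul_assoc, ← mul_assoc (List.map gen w).prod, ih, one_mul, gen_mul_self]

/-- the target levels of the filtration -/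
def lev (d : ℕ) : ℕ := if d = 3 then 15 else 3 * d + 3

theorem lev_mono {d e : ℕ} (h : d ≤ e) : lev d ≤ lev e := by
  unfold lev; split_ifs <;> omega

theorem lev_ge (d : ℕ) : 3 * (d + 1) ≤ lev d := by
  unfold lev; split_ifs <;> omega

theorem dvd_xor {k a b : ℕ} (ha : 2 ^ k ∣ a) (hb : 2 ^ k ∣ b) : 2 ^ k ∣ a ^^^ b := by
  rw [Nat.dvd_iff_mod_eq_zero] at *
  rw [Nat.xor_mod_two_pow, ha, hb]
  rfl

/-- respecting the filtration -/
def Tri (g : GW) : Prop :=
  ∀ (d : ℕ) (v : W), 2 ^ (3 * d) ∣ v.val → 2 ^ lev d ∣ (act g v + v).val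

theorem tri_one : Tri 1 := fun d v _ => by simp

theorem tri_mul {g h : GW} (hg : Tri g) (hh : Tri h) : Tri (g * h) := by
  intro d v hv
  have hw := hh d v hv
  have h1 := hg (d + 1) (act h v + v) ((pow_dvd_pow 2 (lev_ge d)).trans hw)
  have h1' : 2 ^ lev d ∣ (act g (act h v + v) + (act h v + v)).val :=
    (pow_dvd_pow 2 (lev_mono (Nat.le_succ d))).trans h1
  have key := dvd_xor (dvd_xor h1' hw) (hg d v hv)
  rw [← W.val_add, ← W.val_add] at key
  have e : act g (act h v + v) + (act h v + v) + (act h v + v) + (act g v + v) =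
      act (g * h) v + v := by
    rw [act_mul, act_add, add_assoc (act g (act h v) + act g v), W.add_self, add_zero,
      add_assoc (act g (act h v)), ← add_assoc (act g v), W.add_self, zero_add]
  rwa [e] at key

theorem gen_tri {i : ℕ} (hi : isU [i] = true) : Tri (gen i) := by
  intro d v hv
  rw [W.val_add, act_gen]
  obtain ⟨u, hu⟩ := hv
  by_cases hd : 3 * d < 24
  · have hi16 : i < 16 := by
      simp only [isU, List.all_cons, List.all_nil, Bool.and_true, Bool.or_eq_true, Nat.beq_eq,
        Bool.and_eq_true, Nat.ble_eq] at hi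
      omega
    have hc := List.all_eq_true.1 tri_ok i (List.mem_range.2 hi16)
    rw [hi, Bool.not_true, Bool.false_or, List.all_eq_true] at hc
    rw [Nat.dvd_iff_mod_eq_zero, hu, Nat.mul_comm, ← Nat.shiftLeft_eq]
    have hu' : u < 2 ^ (24 - 3 * d) := by
      have := v.lt
      rw [hu, ← Nat.add_sub_cancel' hd.le, pow_add] at this
      exact Nat.lt_of_mul_lt_mul_left this
    refine lin_ext (f := fun u => (app (genL i) (u <<< (3 * d)) ^^^ u <<< (3 * d)) % 2 ^ lev d)
      (g := fun _ => 0) (fun a b => ?_) (fun _ _ => rfl) (24 - 3 * d) (fun j hj => ?_) u hu'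
    · simp only [Nat.shiftLeft_xor_distrib, app_xor, ← Nat.xor_mod_two_pow]
      congr 1
      simp [Nat.xor_assoc, Nat.xor_left_comm, Nat.xor_comm]
    · simp only [Nat.shiftLeft_eq, ← pow_add]
      have h := hc (j + 3 * d) (List.mem_range.2 (by omega))
      simp only [Nat.beq_eq] at h
      have hle : lev d ≤ if Nat.ble 9 (j + 3 * d) && Nat.ble (j + 3 * d) 11 then 15
          else 3 * ((j + 3 * d) / 3) + 3 := by
        by_cases hk : 9 ≤ j + 3 * d ∧ j + 3 * d ≤ 11
        · rw [if_pos (by simpa [Nat.ble_eq] using hk)]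
          unfold lev; split_ifs <;> omega
        · rw [if_neg (by simpa [Nat.ble_eq] using hk)]
          unfold lev; split_ifs <;> omega
      exact Nat.eq_zero_of_dvd_of_lt ((Nat.dvd_iff_mod_eq_zero).2 (Nat.mod_eq_zero_of_dvd
        (Nat.mod_mod_of_dvd _ (pow_dvd_pow 2 hle) ▸ by rw [h]; simp))) (Nat.mod_lt _ (by positivity))
  · have hv0 : v.val = 0 := Nat.eq_zero_of_dvd_of_lt ⟨u, hu⟩
      (v.lt.trans_le (Nat.pow_le_pow_right (by norm_num) (not_lt.1 hd)))
    simp [hv0]

end Cfsg.Agent.Grp.TM
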