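import Cfsg.Agent.Lib.Grp.TM.Space
import Cfsg.Agent.S1067
import Cfsg.Agent.S1071

/-! The group ³D₄(2) as a group of bit maps. -/

set_option autoImplicit false
set_option maxRecDepth 100000

namespace Cfsg.Agent.Grp.TM

open Matrix Cfsg.Agent.Classical Cfsg.Agent.Classical.OrthAut
open Cfsg.Agent.Lie.Chev.IsoD4 (I8 ent tab tab_ok tab_cover root root_val coverHom coverHom_X)
open Cfsg.Agent.Lie.OrthGen (toM toM_cons toM_nil)
open Cfsg.Lie Cfsg.Agent.Lie.Chev

variable {K : Type*} [Field K]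

theorem swap_swap' (a : I8) : a.swap.swap = a := Sum.swap_swap a

theorem scalar_of_comm (M : Matrix I8 I8 K)
    (h : ∀ r < 24, M * toM K (ent r) = toM K (ent r) * M) :
    (∀ i j, i ≠ j → M i j = 0) ∧ ∀ i, M i i = M (.inl 0) (.inl 0) := by
  have key : ∀ a b : I8, b ≠ a → b ≠ a.swap →
      (∀ x, x ≠ a → x ≠ b → M x b = 0) ∧ M b b = M a.swap a.swap := by
    intro a b hba hba'
    obtain ⟨r, hr, hσ⟩ := tab_cover a b hba hba'
    obtain ⟨σ, hσu, e⟩ : ∃ σ : K, σ ≠ 0 ∧ toM K (ent (r : ℕ)) =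
        Matrix.single b a.swap σ + Matrix.single a b.swap (-σ) := by
      rcases hr with ⟨e1, e2⟩ | ⟨e1, e2⟩
      · refine ⟨((tab r).2.2 : K), fun h0 => ?_, ?_⟩
        · have := congrArg (Int.cast : ℤ → K) hσ
          rw [Int.cast_mul, h0, mul_zero, Int.cast_one] at this
          exact zero_ne_one this
        · rw [ent, toM_cons, toM_cons, toM_nil, add_zero, e1, e2, Int.cast_neg]
      · refine ⟨-((tab r).2.2 : K), fun h0 => ?_, ?_⟩
        · have := congrArg (Int.cast : ℤ → K) hσ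
          rw [Int.cast_mul, neg_eq_zero.1 h0, mul_zero, Int.cast_one] at this
          exact zero_ne_one this
        · rw [ent, toM_cons, toM_cons, toM_nil, add_zero, e1, e2, Int.cast_neg, neg_neg, add_comm]
    have hc := h r r.2
    rw [e, Matrix.mul_add, Matrix.add_mul] at hc
    have hab : a.swap ≠ b.swap := fun he => hba (by
      have := congrArg Sum.swap he
      rwa [Sum.swap_swap, Sum.swap_swap, eq_comm] at this)
    have E : ∀ x, M x b * σ =
        (if x = b then σ * M a.swap a.swap else 0) + (if x = a then -σ * M b.swap a.swap else 0) := by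
      intro x
      have hx := congrFun (congrFun hc x) a.swap
      simp only [Matrix.add_apply, Matrix.mul_apply, Matrix.single_apply, mul_ite, ite_mul, mul_zero,
        zero_mul, ite_and, Finset.sum_ite_eq, Finset.sum_ite_eq', Finset.mem_univ, if_true,
        hab.symm, if_false, Finset.sum_const_zero, add_zero, eq_comm (a := b) (b := x),
        eq_comm (a := a) (b := x)] at hx
      simpa [hab, hab.symm, eq_comm] using hx
    refine ⟨fun x hxa hxb => ?_, ?_⟩
    · have := E x
      rw [if_neg hxb, if_neg hxa, add_zero] at this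
      exact (mul_eq_zero.1 this).resolve_right hσu
    · have := E b
      rw [if_pos rfl, if_neg hba, add_zero, mul_comm σ] at this
      exact mul_right_cancel₀ hσu this
  refine ⟨fun i j hij => ?_, fun i => ?_⟩
  · obtain ⟨a, h1, h2, h3⟩ : ∃ a : I8, j ≠ a ∧ j ≠ a.swap ∧ i ≠ a :=
      (by decide : ∀ i j : I8, ∃ a : I8, j ≠ a ∧ j ≠ a.swap ∧ i ≠ a) i j
    exact (key a j h1 h2).1 i h3 hij
  · have adj : ∀ u v : I8, v ≠ u → v ≠ u.swap → M u u = M v v := fun u v h1 h2 => by
      have := (key v.swap u (fun e => h2 (by rw [e, Sum.swap_swap]))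
        (by rw [Sum.swap_swap]; exact h1.symm)).2
      rwa [Sum.swap_swap] at this
    obtain ⟨a, h1, h2, h3, h4⟩ : ∃ a : I8, a ≠ i ∧ a ≠ i.swap ∧
        (Sum.inl 0 : I8) ≠ a ∧ (Sum.inl 0 : I8) ≠ a.swap :=
      (by decide : ∀ i : I8, ∃ a : I8, a ≠ i ∧ a ≠ i.swap ∧
        (Sum.inl 0 : I8) ≠ a ∧ (Sum.inl 0 : I8) ≠ a.swap) i
    exact (adj i a h1 h2).trans (adj a (.inl 0) h3 h4)

theorem eq_one_of_comm [CharP K 2] (g : isometryGroup K ⇑(qfPlus 4 K))
    (h : ∀ r < 24, g * root K r 1 = root K r 1 * g) : g = 1 := by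
  obtain ⟨hoff, hdiag⟩ := scalar_of_comm (ogVal g) fun r hr => by
    have := congrArg ogVal (h r hr)
    rw [ogVal_mul, ogVal_mul, root_val hr, one_smul, Matrix.mul_add, Matrix.add_mul,
      Matrix.mul_one, Matrix.one_mul] at this
    exact add_left_cancel this
  set c := ogVal g (.inl 0) (.inl 0)
  have hM : ogVal g = c • (1 : Matrix I8 I8 K) := by
    ext i j
    by_cases hij : i = j
    · subst hij; simp [hdiag i]
    · simp [hoff i j hij, hij]
  let x : I8 → K := fun k => if k = .inl 0 ∨ k = .inr 0 then 1 else 0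
  have hx : qfPlus 4 K x = 1 := by
    simp [qfPlus_apply, quadFormPlus, x, Fin.sum_univ_four]
  have hq := ogVal_quad g x
  rw [hM, Matrix.smul_mulVec, Matrix.one_mulVec, QuadraticMap.map_smul, hx, smul_eq_mul,
    mul_one] at hq
  have hc : c = 1 := by
    have e : (c + 1) * (c + 1) = 0 := by
      linear_combination hq + (c + 1) * (CharTwo.two_eq_zero (R := K))
    rw [← CharTwo.neg_eq (1 : K), eq_neg_iff_add_eq_zero]
    exact (mul_eq_zero.1 e).elim id id
  exact ogVal_ext (by rw [hM, hc, one_smul, ogVal_one])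

/-- the lift of a word to the cover -/
def lift (w : List (ℕ × K)) : chevD4.SteinbergCover K :=
  (w.map fun p => (certFullD4.stCoverData K).X p.1 p.2).prod

/-- the lifted group -/
def C1 (K : Type*) [Field K] : Subgroup (chevD4.SteinbergCover K) :=
  Subgroup.closure (lift '' d4Words K 2)

theorem d4Words_lt {w : List (ℕ × K)} (hw : w ∈ d4Words K 2) : ∀ p ∈ w, p.1 < 24 := by
  intro p hp
  rcases hw with ⟨t, -, r, hr, rfl⟩ | ⟨t, rs, hrs, rfl⟩
  · fin_cases hr <;> fin_cases hp <;> simp [d4p2, d4m2]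
  · fin_cases hrs <;> fin_cases hp <;> simp [d4p1, d4p3, d4p4, d4m1, d4m3, d4m4]

theorem coverHom_lift {w : List (ℕ × K)} (hw : ∀ p ∈ w, p.1 < 24) :
    coverHom K (lift w) = (w.map fun p => root K p.1 p.2).prod := by
  rw [lift, map_list_prod, List.map_map]
  exact congrArg List.prod (List.map_congr_left fun p hp =>
    coverHom_X K (by rw [IsoD4.nroots_D4]; exact hw p hp) p.2)

theorem theta_lift {w : List (ℕ × K)} (hw : ∀ p ∈ w, p.1 < 24) :
    (((certFullD4.stCoverData K).θ (lift w) : GL chevD4.Idx K) :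
      Matrix chevD4.Idx chevD4.Idx K) = chevD4.wordMat K w := by
  rw [lift, map_list_prod, List.map_map, ← Units.coeHom_apply, map_list_prod, List.map_map]
  exact congrArg List.prod (List.map_congr_left fun p hp => by
    show (((certFullD4.stCoverData K).θ ((certFullD4.stCoverData K).X p.1 p.2) : GL chevD4.Idx K) :
      Matrix chevD4.Idx chevD4.Idx K) = _
    rw [(certFullD4.stCoverData K).θX p.1 (by rw [IsoD4.nroots_D4]; exact hw p hp)]
    rfl)

theorem map_C1 (K : Type*) [Field K] :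
    (C1 K).map (certFullD4.stCoverData K).θ = twistedD4 K 2 := by
  rw [C1, MonoidHom.map_closure, twistedD4, ChevalleyDatum.genSubgroup]
  congr 1
  ext g
  constructor
  · rintro ⟨_, ⟨w, hw, rfl⟩, rfl⟩
    exact ⟨w, hw, theta_lift (d4Words_lt hw)⟩
  · rintro ⟨w, hw, e⟩
    exact ⟨lift w, ⟨w, hw, rfl⟩, Units.ext ((theta_lift (d4Words_lt hw)).trans e.symm)⟩

theorem genL_big {i : ℕ} (hi : 16 ≤ i) : gen i = 1 := by
  refine mm_injective ?_
  rw [mm_gen, mm_one]
  have : genTab.length = 16 := by decide +kernel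
  simp [genL, List.getD_eq_getElem?_getD, List.getElem?_eq_none (this ▸ hi)]

theorem root_zero {r : ℕ} (hr : r < 24) : root K r (0 : K) = 1 :=
  ogVal_ext (by rw [root_val hr, zero_smul, add_zero, ogVal_one])

variable [Fintype K] [CharP K 2] (hK : Fintype.card K = 8) {α : K}
  (hα : α * α * α = α + 1)

include hK hα in
theorem image_word {w : List (ℕ × K)} (hw : w ∈ d4Words K 2) :
    rho hK hα (coverHom K (lift w)) ∈ G0 := by
  rw [coverHom_lift (d4Words_lt hw)]
  have hG : ∀ i < 16, rho hK hα (wordElt α (word8 i)) ∈ G0 := fun i hi => by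
    rw [rho_word hK hα hi]; exact gen_mem i
  rcases hw with ⟨t, ht, r, hr, rfl⟩ | ⟨t, rs, hrs, rfl⟩
  · have ht' : t = 0 ∨ t = 1 := by
      have : t * (t - 1) = 0 := by linear_combination ht
      exact (mul_eq_zero.1 this).imp id sub_eq_zero.1
    rcases ht' with rfl | rfl
    · have hr24 : r < 24 := by fin_cases hr <;> decide
      simp [root_zero hr24]
    · fin_cases hr
      · simpa [wordElt, word8, dec_one, d4p2] using hG 0 (by norm_num)
      · simpa [wordElt, word8, dec_one, d4m2] using hG 1 (by norm_num)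
  · obtain ⟨n, hn⟩ := dec_surjective hK hα t
    simp only at hn
    subst hn
    by_cases h0 : (n : ℕ) = 0
    · have hz : dec α (n : ℕ) = 0 := by rw [h0, dec_zero]
      fin_cases hrs <;> simp [hz, root_zero, d4p1, d4p3, d4p4, d4m1, d4m3, d4m4]
    · have hn8 := n.2
      fin_cases hrs
      · have := hG ((n : ℕ) + 1) (by omega)
        rw [word8, if_neg (by omega), if_neg (by omega), if_pos (by omega)] at this
        simpa [wordElt, sq8, dec_mul8 hα, d4p1, d4p3, d4p4, pow_succ, mul_assoc] using this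
      · have := hG ((n : ℕ) + 8) (by omega)
        rw [word8, if_neg (by omega), if_neg (by omega), if_neg (by omega)] at this
        simpa [wordElt, sq8, dec_mul8 hα, d4m1, d4m3, d4m4, pow_succ, mul_assoc] using this

include hK hα in
theorem gen_image {i : ℕ} (hi : i < 16) :
    ∃ w ∈ d4Words K 2, rho hK hα (coverHom K (lift w)) = gen i := by
  rcases (by omega : i = 0 ∨ i = 1 ∨ (2 ≤ i ∧ i < 9) ∨ 9 ≤ i) with rfl | rfl | h | h
  · refine ⟨[(d4p2, 1)], Or.inl ⟨1, one_pow _, d4p2, by simp, rfl⟩, ?_⟩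
    rw [coverHom_lift (by simp [d4p2]), ← rho_word hK hα hi]
    simp [wordElt, word8, dec_one, d4p2]
  · refine ⟨[(d4m2, 1)], Or.inl ⟨1, one_pow _, d4m2, by simp, rfl⟩, ?_⟩
    rw [coverHom_lift (by simp [d4m2]), ← rho_word hK hα hi]
    simp [wordElt, word8, dec_one, d4m2]
  · refine ⟨_, Or.inr ⟨dec α (i - 1), (d4p1, d4p3, d4p4), by simp, rfl⟩, ?_⟩
    rw [coverHom_lift (d4Words_lt (Or.inr ⟨dec α (i - 1), (d4p1, d4p3, d4p4), by simp, rfl⟩)),
      ← rho_word hK hα hi, word8, if_neg (by omega), if_neg (by omega), if_pos h.2]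
    simp [wordElt, sq8, dec_mul8 hα, d4p1, d4p3, d4p4, pow_succ, mul_assoc]
  · refine ⟨_, Or.inr ⟨dec α (i - 8), (d4m1, d4m3, d4m4), by simp, rfl⟩, ?_⟩
    rw [coverHom_lift (d4Words_lt (Or.inr ⟨dec α (i - 8), (d4m1, d4m3, d4m4), by simp, rfl⟩)),
      ← rho_word hK hα hi, word8, if_neg (by omega), if_neg (by omega), if_neg (by omega)]
    simp [wordElt, sq8, dec_mul8 hα, d4m1, d4m3, d4m4, pow_succ, mul_assoc]

omit [CharP K 2] in
theorem exists_embedding (hK : Fintype.card K = 8) :
    ∃ f : ↥(twistedD4 K 2) →* GW, Function.Injective f ∧ f.range = G0 := by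
  obtain ⟨hchar, α, hα⟩ := exists_alpha hK
  have hN : checkNbr certFullD4.T = true := by decide +kernel
  set A := certFullD4.stCoverData K
  let θ1 : ↥(C1 K) →* ↥(twistedD4 K 2) :=
    (A.θ.comp (C1 K).subtype).codRestrict _ fun x => by
      rw [← map_C1]; exact ⟨x.1, x.2, rfl⟩
  have hθ : Function.Surjective θ1 := fun y => by
    obtain ⟨x, hx, e⟩ : (y : GL chevD4.Idx K) ∈ (C1 K).map A.θ := by rw [map_C1]; exact y.2
    exact ⟨⟨x, hx⟩, Subtype.ext e⟩
  let ψ : ↥(C1 K) →* GW := (rho hK hα).comp ((coverHom K).comp (C1 K).subtype)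
  have hker : θ1.ker ≤ ψ.ker := fun z hz => by
    have hz' : (z : chevD4.SteinbergCover K) ∈ Subgroup.center _ :=
      (A.ker_le hN).trans inf_le_right (congrArg Subtype.val (MonoidHom.mem_ker.1 hz))
    rw [MonoidHom.mem_ker]
    show rho hK hα (coverHom K z) = 1
    rw [eq_one_of_comm (coverHom K (z : chevD4.SteinbergCover K)) fun r hr => by
      rw [← coverHom_X K (by rw [IsoD4.nroots_D4]; exact hr), ← map_mul, ← map_mul,
        Subgroup.mem_center_iff.1 hz'], map_one]
  let f : ↥(twistedD4 K 2) →* GW := θ1.liftOfSurjective hθ ⟨ψ, hker⟩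
  have hf : ∀ x, f (θ1 x) = ψ x := fun x =>
    MonoidHom.liftOfRightInverse_comp_apply _ _ _ ⟨ψ, hker⟩ x
  have hrange : f.range = G0 := by
    have e : f.range = ψ.range := by
      ext g
      constructor
      · rintro ⟨y, rfl⟩
        obtain ⟨x, rfl⟩ := hθ y
        exact ⟨x, (hf x).symm⟩
      · rintro ⟨x, rfl⟩
        exact ⟨θ1 x, hf x⟩
    rw [e]
    refine le_antisymm ?_ ((Subgroup.closure_le _).2 ?_)
    · rintro _ ⟨⟨x, hx⟩, rfl⟩
      show x ∈ G0.comap ((rho hK hα).comp (coverHom K))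
      refine (Subgroup.closure_le _).2 ?_ hx
      rintro _ ⟨w, hw, rfl⟩
      exact image_word hK hα hw
    · rintro _ ⟨i, rfl⟩
      by_cases hi : i < 16
      · obtain ⟨w, hw, e⟩ := gen_image hK hα hi
        exact ⟨⟨lift w, Subgroup.subset_closure ⟨w, hw, rfl⟩⟩, e⟩
      · rw [genL_big (not_lt.1 hi)]
        exact ψ.range.one_mem
  refine ⟨f, (MonoidHom.ker_eq_bot_iff f).1 ?_, hrange⟩
  obtain ⟨hsimple, -⟩ := Cfsg.Agent.S1071.result (q := 2) (by decide) (K := K) (by rw [hK]; rfl)
  refine (hsimple.eq_bot_or_eq_top_of_normal f.ker inferInstance).resolve_right fun htop => ?_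
  have h1 : gen 0 ∈ f.range := hrange ▸ gen_mem 0
  obtain ⟨y, hy⟩ := h1
  have : y ∈ f.ker := htop ▸ trivial
  rw [MonoidHom.mem_ker.1 this] at hy
  have := congrArg mm hy
  rw [mm_one, mm_gen] at this
  revert this
  decide +kernel

omit [CharP K 2] in
theorem card_G0 (hK : Fintype.card K = 8) : Nat.card G0 = 211341312 := by
  obtain ⟨f, hf, hr⟩ := exists_embedding hK
  rw [← hr, ← Nat.card_congr (MonoidHom.ofInjective hf).toEquiv,
    Cfsg.Agent.S1067.result (q := 2) (by decide) (by rw [hK]; rfl)]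
  rfl

end Cfsg.Agent.Grp.TM
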