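import Cfsg.Agent.Lib.Grp.TM.Cases
import Cfsg.Agent.Lib.Grp.TM.Hom

/-! Extensions of ³D₄(2) by powers of the natural module with the same element orders. -/

set_option autoImplicit false
set_option maxRecDepth 100000

namespace Cfsg.Agent.Grp.TM

/-- the componentwise action -/
def piAct (N : ℕ) : G0 →* MulAut (Multiplicative (Fin N → W)) where
  toFun g := AddEquiv.toMultiplicative (AddEquiv.piCongrRight fun _ => ae (g : GW))
  map_one' := rfl
  map_mul' _ _ := rfl

/-- the extension -/
abbrev Ext (N : ℕ) : Type := Multiplicative (Fin N → W) ⋊[piAct N] G0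

instance (N : ℕ) : Finite (Ext N) :=
  Finite.of_equiv _ (SemidirectProduct.equivProd (φ := piAct N)).symm

theorem card_ext (N : ℕ) : Nat.card (Ext N) = (2 ^ 24) ^ N * Nat.card G0 := by
  rw [SemidirectProduct.card]
  show Nat.card (Fin N → W) * _ = _
  rw [Nat.card_fun, card_W, Nat.card_fin]

theorem pow_right (N : ℕ) (x : Ext N) (n : ℕ) : (x ^ n).right = x.right ^ n :=
  map_pow SemidirectProduct.rightHom x n

theorem pow_left (N : ℕ) (x : Ext N) (j : Fin N) : ∀ n : ℕ,
    Multiplicative.toAdd (x ^ n).left j = Nsum (x.right : GW) n (Multiplicative.toAdd x.left j)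
  | 0 => by simp [Nsum]
  | n + 1 => by
    rw [pow_succ, SemidirectProduct.mul_left, pow_right]
    show Multiplicative.toAdd (x ^ n).left j +
      act ((x.right ^ n : G0) : GW) (Multiplicative.toAdd x.left j) = _
    rw [pow_left N x j n, SubgroupClass.coe_pow, Nsum, Nsum, Finset.sum_range_succ]

theorem ord_elt (m : ℕ) (hm : m ∈ ordTab.map Prod.fst) : ∃ g : G0, orderOf g = m := by
  obtain ⟨⟨n, w⟩, hp, rfl⟩ := List.mem_map.1 hm
  have h := ord_ok
  simp only [List.all_eq_true, Bool.and_eq_true, beq_iff_eq, Bool.or_eq_true, Nat.beq_eq,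
    List.mem_range, Bool.not_eq_true', beq_eq_false_iff_ne] at h
  obtain ⟨⟨-, hone⟩, hmin⟩ := h _ hp
  have hpos : 0 < n :=
    (by decide +kernel : ∀ p ∈ ordTab, 0 < p.1) _ hp
  refine ⟨⟨gw w, gw_mem w⟩, ?_⟩
  rw [← Subgroup.orderOf_coe]
  refine (orderOf_eq_iff hpos).2 ⟨mm_injective ?_, fun k hk hk0 e => ?_⟩
  · rw [mm_pow, mm_gw, mm_one]; exact hone
  · rcases hmin k hk with h0 | h0
    · omega
    · refine h0 ?_
      rw [← mm_gw, ← mm_pow]
      exact (congrArg mm e).trans mm_one

theorem spectrum_ext (hG : Nat.card G0 = 211341312) (N : ℕ) :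
    Set.range (orderOf : Ext N → ℕ) = Set.range (orderOf : G0 → ℕ) := by
  ext m
  constructor
  swap
  · rintro ⟨g, rfl⟩
    exact ⟨SemidirectProduct.inr g,
      orderOf_injective (SemidirectProduct.inr : G0 →* Ext N) SemidirectProduct.inr_injective g⟩
  rintro ⟨x, rfl⟩
  set n := orderOf x.right with hn
  have hdvd : n ∣ orderOf x := orderOf_map_dvd (SemidirectProduct.rightHom : Ext N →* G0) x
  have hr : (x ^ n).right = 1 := by rw [pow_right, hn, pow_orderOf_eq_one]
  by_cases hl : x ^ n = 1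
  · exact ⟨x.right, Nat.dvd_antisymm hdvd (orderOf_dvd_of_pow_eq_one hl)⟩
  obtain ⟨j, hj⟩ : ∃ j, Multiplicative.toAdd (x ^ n).left j ≠ 0 := by
    by_contra hne
    push Not at hne
    exact hl (SemidirectProduct.ext (Multiplicative.toAdd.injective (funext hne)) hr)
  rw [pow_left] at hj
  have hgood : n ∈ good := by
    have e : n = orderOf (x.right : GW) := (Subgroup.orderOf_coe _).symm
    rw [e] at hj ⊢
    exact good_of_norm hG x.right.2 hj
  have h2 : x ^ (n * 2) = 1 := by
    rw [pow_mul, pow_two]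
    have : x ^ n = SemidirectProduct.inl (x ^ n).left :=
      SemidirectProduct.ext rfl hr
    rw [this, ← map_mul]
    have e : (x ^ n).left * (x ^ n).left = 1 :=
      Multiplicative.toAdd.injective (funext fun i => W.add_self _)
    rw [e, map_one]
  have hord : orderOf x = 2 * n := by
    obtain ⟨k, hk⟩ := hdvd
    have h := orderOf_dvd_of_pow_eq_one h2
    rw [hk] at h
    have hk2 := Nat.dvd_of_mul_dvd_mul_left (orderOf_pos x.right) h
    rcases (Nat.dvd_prime Nat.prime_two).1 hk2 with rfl | rfl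
    · refine absurd ?_ hl
      rw [mul_one] at hk
      exact hk ▸ pow_orderOf_eq_one x
    · rw [hk, mul_comm]
  obtain ⟨g, hg⟩ := ord_elt (2 * n)
    ((by decide +kernel : ∀ a ∈ good, 2 * a ∈ ordTab.map Prod.fst) n hgood)
  exact ⟨g, hg.trans hord.symm⟩

theorem exists_isospectral {K : Type*} [Field K] [Fintype K] (hK : Fintype.card K = 8) (N : ℕ) :
    ∃ (H : Type) (_ : Group H) (_ : Fintype H), N < Fintype.card H ∧
      Set.range (orderOf : H → ℕ) = Set.range (orderOf : Cfsg.Lie.twistedD4 K 2 → ℕ) := by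
  have hG := card_G0 hK
  obtain ⟨f, hf, hr⟩ := exists_embedding hK
  refine ⟨Ext N, inferInstance, Fintype.ofFinite _, ?_, ?_⟩
  · rw [← @Nat.card_eq_fintype_card, card_ext, hG]
    calc N < (2 ^ 24) ^ N := Nat.lt_pow_self (by norm_num)
      _ ≤ (2 ^ 24) ^ N * 211341312 := Nat.le_mul_of_pos_right _ (by norm_num)
  · rw [spectrum_ext hG]
    let e : ↥(Cfsg.Lie.twistedD4 K 2) ≃* G0 :=
      (MonoidHom.ofInjective hf).trans (MulEquiv.subgroupCongr hr)
    ext m
    constructor
    · rintro ⟨g, rfl⟩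
      exact ⟨e.symm g, orderOf_injective e.symm.toMonoidHom e.symm.injective g⟩
    · rintro ⟨g, rfl⟩
      exact ⟨e g, orderOf_injective e.toMonoidHom e.injective g⟩

end Cfsg.Agent.Grp.TM
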