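import Cfsg.Agent.Lib.Grp.TM.Bits
import Cfsg.Agent.Lib.Lie.Chev.IsoD4

/-! The sixteen maps as matrices over the field with eight elements. -/

set_option autoImplicit false
set_option maxRecDepth 100000

namespace Cfsg.Agent.Grp.TM

open Cfsg.Agent.Lie.Chev.IsoD4 (I8 ent)
open Cfsg.Agent.Lie.OrthGen (coef)

/-- the position of a coordinate -/
def pos : I8 → ℕ := Sum.elim ![7, 6, 5, 3] ![0, 1, 2, 4]

/-- the coordinate at a position -/
def ord : Fin 8 → I8 :=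
  ![Sum.inr 0, Sum.inr 1, Sum.inr 2, Sum.inl 3, Sum.inr 3, Sum.inl 2, Sum.inl 1, Sum.inl 0]

theorem pos_ord : ∀ d : Fin 8, pos (ord d) = d := by decide

theorem ord_pos : ∀ k : I8, ∃ d : Fin 8, ord d = k := by decide

/-- a root element -/
def root8 (r t : ℕ) (i j : I8) : ℕ :=
  cond (decide (i = j)) 1 0 ^^^ cond (decide (coef (ent r) i j % 2 = 1)) t 0

/-- the product -/
def mmul8 (A B : I8 → I8 → ℕ) (i j : I8) : ℕ :=
  mul8 (A i (.inl 0)) (B (.inl 0) j) ^^^ mul8 (A i (.inl 1)) (B (.inl 1) j) ^^^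
  mul8 (A i (.inl 2)) (B (.inl 2) j) ^^^ mul8 (A i (.inl 3)) (B (.inl 3) j) ^^^
  (mul8 (A i (.inr 0)) (B (.inr 0) j) ^^^ mul8 (A i (.inr 1)) (B (.inr 1) j) ^^^
  mul8 (A i (.inr 2)) (B (.inr 2) j) ^^^ mul8 (A i (.inr 3)) (B (.inr 3) j))

/-- the square -/
def sq8 (t : ℕ) : ℕ := mul8 t t

/-- the word of a generator -/
def word8 (i : ℕ) : List (ℕ × ℕ) :=
  if i = 0 then [(14, 1)] else if i = 1 then [(9, 1)] else
  if i < 9 then [(18, i - 1), (13, sq8 (i - 1)), (12, sq8 (sq8 (i - 1)))]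
  else [(5, i - 8), (10, sq8 (i - 8)), (11, sq8 (sq8 (i - 8)))]

/-- the matrix of a word -/
def M8 : List (ℕ × ℕ) → I8 → I8 → ℕ
  | [] => fun i j => cond (decide (i = j)) 1 0
  | [p] => root8 p.1 p.2
  | p :: q :: w => mmul8 (root8 p.1 p.2) (M8 (q :: w))

theorem model_ok : ((List.range 16).all fun i => (List.finRange 8).all fun d =>
    (List.range 3).all fun b => (List.finRange 8).all fun e =>
      Nat.beq ((genL i).getD (3 * (d : ℕ) + b) 0 >>> (3 * (e : ℕ)) % 8)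
        (mul8 (M8 (word8 i) (ord e) (ord d)) (2 ^ b) % 8)) = true := by
  decide +kernel

end Cfsg.Agent.Grp.TM
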