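import Cfsg.Agent.Lib.Grp.TM.StabCount

/-! Orders and norms of the elements fixing a vector. -/

set_option autoImplicit false
set_option maxRecDepth 100000

namespace Cfsg.Agent.Grp.TM

/-- the norm -/
def Nsum (g : GW) (n : ℕ) (v : W) : W := ∑ k ∈ Finset.range n, act (g ^ k) v

/-- either a good order or vanishing norm -/
def Ok (g : GW) : Prop := orderOf g ∈ good ∨ ∀ v, Nsum g (orderOf g) v = 0

theorem act_sum (g : GW) {ι : Type*} (s : Finset ι) (f : ι → W) :
    act g (∑ k ∈ s, f k) = ∑ k ∈ s, act g (f k) := map_sum (ae g) f s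

theorem zeroL_app : ∀ {S : List ℕ}, zeroL S = true → ∀ v, app S v = 0
  | [], _, _ => rfl
  | c :: cs, h, v => by
    simp only [zeroL, List.all_cons, Bool.and_eq_true, Nat.beq_eq] at h
    rw [app, zeroL_app (S := cs) (by simpa [zeroL] using h.2), h.1]
    cases Nat.beq (v % 2) 1 <;> rfl

theorem okFrom_spec (g : GW) : ∀ (fuel n : ℕ) (P S : List ℕ), 0 < n → P = mm (g ^ n) →
    S.length = 24 → (∀ v : W, app S v.val = (Nsum g n v).val) →
    (∀ k, 0 < k → k < n → g ^ k ≠ 1) → okFrom (mm g) fuel n P S = true → Ok g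
  | 0, _, _, _, _, _, _, _, _, h => by simp [okFrom] at h
  | fuel + 1, n, P, S, hn, hP, hl, hS, hmin, h => by
    simp only [okFrom] at h
    by_cases hone : g ^ n = 1
    · have e : orderOf g = n := by
        rw [orderOf_eq_iff hn]
        exact ⟨hone, fun k hk hk0 => hmin k hk0 hk⟩
      rw [if_pos (by simp [hP, hone, mm_one])] at h
      simp only [Bool.or_eq_true, List.contains_iff_mem] at h
      rcases h with h | h
      · exact Or.inl (e ▸ h)
      · exact Or.inr fun v => W.ext (by rw [e, ← hS, zeroL_app h]; rfl)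
    · rw [if_neg] at h
      · refine okFrom_spec g fuel (n + 1) _ _ (Nat.succ_pos n) ?_ ?_ ?_ ?_ h
        · rw [hP, pow_succ', mm_mul]
        · simp [addL, hl, hP, mm, length_mat]
        · intro v
          rw [app_addL _ _ (by simp [hl, hP, mm, length_mat]), hS, hP, app_mm, ← W.val_add,
            Nsum, Nsum, Finset.sum_range_succ]
        · intro k hk0 hk
          rcases Nat.lt_succ_iff_lt_or_eq.1 hk with hk | rfl
          · exact hmin k hk0 hk
          · exact hone
      · simp only [hP, beq_iff_eq]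
        exact fun e => hone (mm_injective (e.trans mm_one.symm))

theorem okM_spec {g : GW} (h : okM (mm g) = true) : Ok g :=
  okFrom_spec g 30 1 (mm g) oneL Nat.one_pos (by rw [pow_one]) rfl
    (fun v => by rw [app_oneL v.lt, Nsum, Finset.sum_range_one, pow_zero, act_one])
    (fun k h0 h1 => absurd h1 (by omega)) h

theorem Nsum_conj (x g : GW) (n : ℕ) (v : W) :
    Nsum (x * g * x⁻¹) n v = act x (Nsum g n (act x⁻¹ v)) := by
  rw [Nsum, Nsum, act_sum]
  refine Finset.sum_congr rfl fun k _ => ?_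
  rw [conj_pow, act_mul, act_mul]

theorem ok_conj {x g : GW} (h : Ok (x * g * x⁻¹)) : Ok g := by
  have e : orderOf (x * g * x⁻¹) = orderOf g :=
    orderOf_injective (MulAut.conj x).toMonoidHom (MulAut.conj x).injective g
  rcases h with h | h
  · exact Or.inl (e ▸ h)
  · refine Or.inr fun v => ?_
    have := h (act x v)
    rw [e, Nsum_conj, ← act_mul x⁻¹, inv_mul_cancel, act_one] at this
    calc Nsum g (orderOf g) v = act (x⁻¹ * x) (Nsum g (orderOf g) v) := by
          rw [inv_mul_cancel, act_one]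
      _ = 0 := by rw [act_mul, this, act_zero]

theorem ok_tri {g : GW} (hg : Tri g) : Ok g := by
  obtain ⟨k, hk, e⟩ := (Nat.dvd_prime_pow Nat.prime_two).1
    (orderOf_dvd_of_pow_eq_one (n := 2 ^ 3) (tri_pow_eight hg))
  interval_cases k
  · exact Or.inl (by rw [e]; decide)
  · exact Or.inl (by rw [e]; decide)
  · exact Or.inl (by rw [e]; decide)
  · refine Or.inr fun v => ?_
    have h : dd g (dd (g * g) (dd (g * g * (g * g)) v)) = 0 := by
      simp only [dd_sq]
      exact tri_dd_seven hg v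
    rw [e, ← h]
    simp only [Nsum, dd, act_add, ← act_mul, Finset.sum_range_succ, Finset.sum_range_zero,
      pow_succ, pow_zero, one_mul, mul_assoc, act_one, zero_add, Nat.reducePow, Nat.reduceMul]
    abel

theorem exists_conj_mem {Γ : Type*} [Group Γ] [Finite Γ] (p : ℕ) [Fact p.Prime]
    {H S : Subgroup Γ} (hle : S ≤ H) (hS : IsPGroup p S)
    (hidx : ¬ p ∣ Nat.card H / Nat.card S) {g : Γ} (hg : g ∈ H) (hp : ∃ k, g ^ p ^ k = 1) :
    ∃ x ∈ H, x * g * x⁻¹ ∈ S := by
  have hS' : IsPGroup p (S.subgroupOf H) := hS.of_equiv (Subgroup.subgroupOfEquivOfLe hle).symm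
  have hi : ¬ p ∣ (S.subgroupOf H).index := by
    have e := (S.subgroupOf H).index_mul_card
    rw [Nat.card_congr (Subgroup.subgroupOfEquivOfLe hle).toEquiv] at e
    rwa [← e, Nat.mul_div_cancel _ Nat.card_pos] at hidx
  let Q : Sylow p H := hS'.toSylow hi
  obtain ⟨k, hk⟩ := hp
  have hz : IsPGroup p (Subgroup.zpowers (⟨g, hg⟩ : H)) := IsPGroup.iff_card.2 (by
    obtain ⟨j, -, hj⟩ := (Nat.dvd_prime_pow (Fact.out : p.Prime)).1
      (orderOf_dvd_of_pow_eq_one (x := (⟨g, hg⟩ : H)) (n := p ^ k) (Subtype.ext hk))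
    exact ⟨j, (Nat.card_zpowers _).trans hj⟩)
  obtain ⟨P, hP⟩ := hz.exists_le_sylow
  obtain ⟨x, hx⟩ := MulAction.exists_smul_eq H P Q
  refine ⟨x, x.2, ?_⟩
  have : MulAut.conj x ⟨g, hg⟩ ∈ (Q : Subgroup H) := by
    rw [← hx, Sylow.coe_subgroup_smul]
    exact Subgroup.smul_mem_pointwise_smul _ _ _ (hP (Subgroup.mem_zpowers _))
  exact this

/-- a centraliser inside a stabiliser -/
def cen (i : Fin 6) (y : GW) : Subgroup GW := stab i ⊓ Subgroup.centralizer {y}

theorem mem_cen {i : Fin 6} {y g : GW} : g ∈ cen i y ↔ g ∈ stab i ∧ g * y = y * g := by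
  simp [cen, Subgroup.mem_centralizer_singleton_iff, eq_comm]

theorem class_bound (i : Fin 6) (y : GW) (L : List (List ℕ)) (hn : L.Nodup)
    (hL : ∀ A ∈ L, ∃ s ∈ stab i, mm (s * y * s⁻¹) = A) :
    L.length * Nat.card (cen i y) ≤ Nat.card (stab i) := by
  classical
  set C := (cen i y).subgroupOf (stab i) with hC
  have hcard : Nat.card C = Nat.card (cen i y) :=
    Nat.card_congr (Subgroup.subgroupOfEquivOfLe inf_le_left).toEquiv
  let f : (stab i) ⧸ C → List ℕ := fun q => mm ((q.out : GW) * y * (q.out : GW)⁻¹)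
  have hf : ∀ s : stab i, f (QuotientGroup.mk s) = mm ((s : GW) * y * (s : GW)⁻¹) := fun s => by
    obtain ⟨c, hc⟩ := QuotientGroup.mk_out_eq_mul C s
    have hcy := (mem_cen.1 (Subgroup.mem_subgroupOf.1 c.2)).2
    simp only [f]
    rw [hc, Subgroup.coe_mul, mul_inv_rev, mul_assoc (s : GW) _ y, hcy]
    simp [mul_assoc]
  have hle : L.length ≤ C.index := by
    rw [← List.toFinset_card_of_nodup hn, ← Set.ncard_coe_finset, Subgroup.index,
      ← Set.ncard_univ]
    refine le_trans (Set.ncard_le_ncard (t := f '' Set.univ) ?_ (Set.toFinite _))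
      (Set.ncard_image_le (Set.toFinite _))
    intro A hA
    obtain ⟨s, hs, e⟩ := hL A (List.mem_toFinset.1 hA)
    exact ⟨QuotientGroup.mk ⟨s, hs⟩, trivial, (hf _).trans e⟩
  calc L.length * Nat.card (cen i y) ≤ C.index * Nat.card C := by
        rw [hcard]; exact Nat.mul_le_mul_right _ hle
    _ = Nat.card (stab i) := C.index_mul_card

theorem tree_spec {f : ℕ → List ℕ → List ℕ} (P : List ℕ → Prop) :
    ∀ (L : List (ℕ × ℕ × List ℕ)) (done : List (List ℕ)) (n : ℕ), done.length = n →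
      (∀ A ∈ done, P A) → (∀ e ∈ L, ∀ A, P A → P (f e.2.1 A)) → treeOK f L done n = true →
      ∀ e ∈ L, P e.2.2
  | [], _, _, _, _, _, _, e, he => by simp at he
  | (p, g, M) :: rest, done, n, hl, hd, hf, h, e, he => by
    simp only [treeOK, Bool.and_eq_true, Nat.blt_eq, beq_iff_eq] at h
    obtain ⟨⟨hp, hM⟩, hrest⟩ := h
    have hPM : P M := by
      rw [← hM]
      refine hf (p, g, M) List.mem_cons_self _ ?_
      rw [List.getD_eq_getElem _ _ (by omega : n - 1 - p < done.length)]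
      exact hd _ (List.getElem_mem _)
    rcases List.mem_cons.1 he with rfl | he'
    · exact hPM
    · refine tree_spec P rest (M :: done) (n + 1) (by simp [hl]) (fun A hA => ?_)
        (fun e' he' => hf e' (List.mem_cons_of_mem _ he')) hrest e he'
      rcases List.mem_cons.1 hA with rfl | hA'
      · exact hPM
      · exact hd A hA'

theorem conj_spec {i : Fin 6} {sg : List (List ℕ)} (hs : sgenOK i sg = true) {y : GW}
    {z : List (ℕ × ℕ × List ℕ)} (h : conjOK sg (mm y) z = true) :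
    (z.length + 1) * Nat.card (cen i y) ≤ Nat.card (stab i) := by
  simp only [conjOK, Bool.and_eq_true] at h
  obtain ⟨⟨-, htree⟩, hkeys⟩ := h
  have := class_bound i y (mm y :: z.map fun e => e.2.2) (keysOK_spec hkeys).1 fun A hA => ?_
  · simpa using this
  rcases List.mem_cons.1 hA with rfl | hA'
  · exact ⟨1, (stab i).one_mem, by simp⟩
  obtain ⟨e, he, rfl⟩ := List.mem_map.1 hA'
  refine tree_spec (fun A => ∃ s ∈ stab i, mm (s * y * s⁻¹) = A) z [mm y] 1 rfl
    (fun A hA => ⟨1, (stab i).one_mem, by simp at hA; simp [hA]⟩) ?_ htree e he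
  rintro e' - A ⟨s, hsm, rfl⟩
  refine ⟨gw (sg.getD e'.2.1 []) * s, (stab i).mul_mem (sgen_mem hs _) hsm, ?_⟩
  rw [sgL_getD, sgInvL_getD, ← mm_gw, ← mm_gw, ← mm_mul, ← mm_mul,
    show gw (sg.getD e'.2.1 []).reverse = (gw (sg.getD e'.2.1 []))⁻¹ from
      (inv_eq_of_mul_eq_one_right (gw_reverse _)).symm]
  simp [mul_assoc]

theorem cent_spec {i : Fin 6} {sg : List (List ℕ)} (hs : sgenOK i sg = true)
    (hc : Nat.card (stab i) = hOrd i) {y : GW} {cg : List (List ℕ)}
    {ce z : List (ℕ × ℕ × List ℕ)} (h : centOK i sg (mm y) cg ce z = true) {g : GW}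
    (hg : g ∈ cen i y) : Ok g := by
  classical
  simp only [centOK, Bool.and_eq_true, List.all_eq_true, Nat.ble_eq, beq_iff_eq] at h
  obtain ⟨⟨⟨⟨⟨⟨⟨hcomm, -⟩, htree⟩, hkeys⟩, hsize⟩, hconj⟩, hone⟩, hok⟩ := h
  have hbound := conj_spec hs hconj
  have hmem : ∀ k, sw sg (cg.getD k []) ∈ cen i y := fun k => by
    refine mem_cen.2 ⟨sw_mem hs _, mm_injective ?_⟩
    rw [mm_mul, mm_mul, mm_sw]
    by_cases hk : k < cg.length
    · rw [List.getD_eq_getElem _ _ hk]
      exact hcomm _ (List.mem_map_of_mem (List.getElem_mem hk))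
    · rw [List.getD_eq_default _ _ (not_lt.1 hk), show tmat (sgL sg) [] = mm 1 from mm_one.symm,
        ← mm_mul, ← mm_mul, one_mul, mul_one]
  let L := oneL :: ce.map fun e => e.2.2
  have hL : ∀ A ∈ L, ∃ s ∈ cen i y, mm s = A := fun A hA => by
    rcases List.mem_cons.1 hA with rfl | hA'
    · exact ⟨1, (cen i y).one_mem, mm_one⟩
    obtain ⟨e, he, rfl⟩ := List.mem_map.1 hA'
    refine tree_spec (fun A => ∃ s ∈ cen i y, mm s = A) ce [oneL] 1 rfl
      (fun A hA => ⟨1, (cen i y).one_mem, by simp at hA; simp [hA, mm_one]⟩) ?_ htree e he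
    rintro e' - A ⟨s, hsm, rfl⟩
    refine ⟨sw sg (cg.getD e'.2.1 []) * s, (cen i y).mul_mem (hmem _) hsm, ?_⟩
    rw [mm_mul, mm_sw, ← List.getD_map cg [] (tmat (sgL sg)),
      show tmat (sgL sg) [] = oneL from rfl]
  have hlen : Nat.card (cen i y) ≤ ce.length + 1 := by
    refine Nat.le_of_mul_le_mul_left ?_ (Nat.succ_pos z.length)
    calc (z.length + 1) * Nat.card (cen i y) ≤ hOrd i := hc ▸ hbound
      _ ≤ (ce.length + 1) * (z.length + 1) := hsize
      _ = _ := Nat.mul_comm _ _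
  have hsub : (L.toFinset : Set (List ℕ)) ⊆ mm '' (cen i y : Set GW) := fun A hA => by
    obtain ⟨s, hs', e⟩ := hL A (List.mem_toFinset.1 hA)
    exact ⟨s, hs', e⟩
  have heq := Set.eq_of_subset_of_ncard_le hsub (by
    rw [Set.ncard_image_of_injective _ mm_injective, ← Nat.card_coe_set_eq, Set.ncard_coe_finset,
      List.toFinset_card_of_nodup (keysOK_spec hkeys).1]
    simpa [L] using hlen) (Set.toFinite _)
  have : mm g ∈ (L.toFinset : Set (List ℕ)) := heq ▸ ⟨g, hg, rfl⟩
  refine okM_spec ?_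
  rcases List.mem_cons.1 (List.mem_toFinset.1 this) with e | e
  · rw [e]; exact hone
  · obtain ⟨e', he', e''⟩ := List.mem_map.1 e
    exact e'' ▸ hok e' he'

end Cfsg.Agent.Grp.TM
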