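import Cfsg.Agent.Lib.Grp.TM.Scalar

/-! Every non-zero vector lies in an orbit of one of the representatives or of a multiple. -/

set_option autoImplicit false
set_option maxRecDepth 100000

namespace Cfsg.Agent.Grp.TM

theorem rep_data : (List.range 6).all fun i => Nat.blt (rep i) (2 ^ 24) = true := by decide +kernel

theorem rep_lt (i : Fin 6) : rep i < 2 ^ 24 := by
  simpa [Nat.blt_eq] using List.all_eq_true.1 rep_data i (List.mem_range.2 i.2)

/-- a representative -/
def repW (i : Fin 6) : W := ⟨rep i, rep_lt i⟩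

/-- in the orbit of a multiple of a representative -/
def Good (v : W) : Prop := ∃ (i : Fin 6) (k : ℕ), ∃ g ∈ G0, v = act g (act (zz ^ k) (repW i))

theorem good_of_act {g : GW} (hg : g ∈ G0) {v : W} (h : Good (act g v)) : Good v := by
  obtain ⟨i, k, x, hx, e⟩ := h
  refine ⟨i, k, g⁻¹ * x, G0.mul_mem (G0.inv_mem hg) hx, ?_⟩
  rw [act_mul, ← e, ← act_mul, inv_mul_cancel, act_one]

theorem good_of_scal {k : ℕ} {v : W} (h : Good (act (zz ^ k) v)) : Good v := by
  obtain ⟨i, l, g, hg, e⟩ := h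
  refine ⟨i, 6 * k + l, g, hg, ?_⟩
  rw [pow_add, act_mul, ← act_mul, ← (zz_comm hg _).eq, act_mul, ← e, ← act_mul, ← pow_add,
    show 6 * k + k = 7 * k by ring, pow_mul, zz_pow_seven, one_pow, act_one]

/-- all vectors with this prefix are good -/
def Cov (d r : ℕ) : Prop := ∀ v : W, v.val % 2 ^ (3 * d) = r → Good v

theorem cov_step : ∀ (d : ℕ) (R : List ℕ) (wit : List (List (ℕ × List ℕ))) (R' : List ℕ),
    d < 8 → covOK d R wit R' = true → (∀ r ∈ R', Cov (d + 1) r) → ∀ r ∈ R, Cov d r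
  | d, [], _, _, _, _, _, r, hr => by simp at hr
  | d, r₀ :: rs, [], _, _, h, _, r, hr => by simp [covOK] at h
  | d, r₀ :: rs, row :: rows, R', hd, h, hR, r, hr => by
    rw [covOK, Bool.and_eq_true] at h
    rcases List.mem_cons.1 hr with rfl | hr'
    · intro v hv
      set c := v.val / 2 ^ (3 * d) % 8 with hc
      have hpre : v.val % 2 ^ (3 * d + 3) = r + c * 2 ^ (3 * d) := by
        rw [pow_add, Nat.mod_mul, hv, hc, Nat.mul_comm]
        norm_num
      have h' := List.all_eq_true.1 h.1 c (List.mem_range.2 (Nat.mod_lt _ (by norm_num)))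
      simp only [Bool.and_eq_true, Nat.blt_eq, Nat.beq_eq] at h'
      obtain ⟨⟨hU, hlt⟩, heq⟩ := h'
      set p := row.getD c (R'.length, [])
      refine good_of_act (gw_mem p.2) (hR (R'.getD p.1 0) ?_ _ ?_)
      · rw [List.getD_eq_getElem?_getD, List.getElem?_eq_getElem hlt]
        exact List.getElem_mem hlt
      · have hy : r + c * 2 ^ (3 * d) < 2 ^ 24 := by
          rw [← hpre]
          exact (Nat.mod_lt _ (by positivity)).trans_le
            (Nat.pow_le_pow_right (by norm_num) (by omega))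
        rw [← heq, ← act_gw p.2 ⟨_, hy⟩, show 3 * d + 3 = 3 * (d + 1) by ring]
        refine tri_cong (tri_gw hU) (d + 1) ?_
        show _ = (r + c * 2 ^ (3 * d)) % _
        rw [show 3 * (d + 1) = 3 * d + 3 by ring, ← hpre, Nat.mod_mod]
    · exact cov_step d rs rows R' hd h.2 hR r hr'

theorem cov_leaf : ∀ (L : List ℕ) (T : List (ℕ × ℕ × List ℕ)), leafOK L T = true →
    ∀ r ∈ L, Cov 8 r
  | [], _, _, r, hr => by simp at hr
  | v₀ :: vs, [], h, r, hr => by simp [leafOK] at h
  | v₀ :: vs, (i, c, w) :: ts, h, r, hr => by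
    simp only [leafOK, Bool.and_eq_true, Nat.blt_eq, Nat.ble_eq, Nat.beq_eq] at h
    obtain ⟨⟨⟨⟨⟨hi, h1⟩, h7⟩, -⟩, hw⟩, hrec⟩ := h
    rcases List.mem_cons.1 hr with rfl | hr'
    · intro v hv
      rw [Nat.mod_eq_of_lt (by simpa using v.lt)] at hv
      obtain ⟨k, hk⟩ := scal_power h1 h7
      refine ⟨⟨i, hi⟩, k, gw w, gw_mem w, W.ext ?_⟩
      rw [act_gw, ← hk, hv, ← hw]
      rfl
    · exact cov_leaf vs ts hrec r hr'

theorem cov_one : Cov 1 1 := by
  refine cov_step 1 pref1 wit1 pref2 (by norm_num) cov1_ok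
    (cov_step 2 pref2 wit2 pref3 (by norm_num) cov2_ok
    (cov_step 3 pref3 wit3 pref4 (by norm_num) cov3_ok
    (cov_step 4 pref4 wit4 pref5 (by norm_num) cov4_ok
    (cov_step 5 pref5 wit5 pref6 (by norm_num) cov5_ok
    (cov_step 6 pref6 wit6 pref7 (by norm_num) cov6_ok
    (cov_step 7 pref7 wit7 pref8 (by norm_num) cov7_ok
    (cov_leaf pref8 leafTab leaf_ok))))))) 1 (by simp [pref1])

theorem pack_xor : ∀ (ws : List (List ℕ)) (a b : ℕ),
    pack ws (a ^^^ b) = pack ws a ^^^ pack ws b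
  | [], _, _ => by simp [pack]
  | w :: ws, a, b => by
    have hw : ∀ w : List ℕ, wapp w (a ^^^ b) = wapp w a ^^^ wapp w b := fun w => by
      induction w with
      | nil => rfl
      | cons i w ih => simp only [wapp, List.foldr_cons] at ih ⊢; rw [ih, app_xor]
    have key : ∀ x y : ℕ, x % 8 + 8 * y = 2 ^ 3 * y + x % 2 ^ 3 := fun x y => by
      norm_num; ring
    simp only [pack, key, hw, pack_xor ws]
    refine Nat.eq_of_testBit_eq fun j => ?_
    have hm : ∀ x : ℕ, x % 2 ^ 3 < 2 ^ 3 := fun x => Nat.mod_lt _ (by norm_num)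
    simp only [Nat.testBit_two_pow_mul_add _ (hm _), Nat.testBit_xor,
      Nat.testBit_mod_two_pow]
    split_ifs <;> simp_all

theorem pack_eq_zero {v : ℕ} : ∀ {ws : List (List ℕ)},
    (∀ w ∈ ws, wapp w v % 8 = 0) → pack ws v = 0
  | [], _ => rfl
  | w :: ws, h => by
    rw [pack, h w List.mem_cons_self, pack_eq_zero fun x hx => h x (List.mem_cons_of_mem _ hx)]

theorem good_all {v : W} (hv : v ≠ 0) : Good v := by
  obtain ⟨w, -, hw⟩ : ∃ w ∈ spanTab, wapp w v.val % 8 ≠ 0 := by
    by_contra hne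
    push Not at hne
    refine hv (W.ext ?_)
    have h := span_ok
    simp only [spanOK, Bool.and_eq_true, List.all_eq_true, List.mem_range, Nat.beq_eq] at h
    have := lin_ext (f := fun u => app spanInv (pack spanTab u)) (g := id)
      (fun a b => by simp only [pack_xor, app_xor]) (fun _ _ => rfl) 24 h.2 v.val v.lt
    simp only [id_eq] at this
    rw [← this, pack_eq_zero hne, app_zero]
    rfl
  refine good_of_act (gw_mem w) ?_
  have hne : (act (gw w) v).val % 8 ≠ 0 := by rwa [act_gw]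
  obtain ⟨k, hk⟩ := scal_norm hne (Nat.mod_lt _ (by norm_num))
  exact good_of_scal (cov_one _ (hk _ rfl))

end Cfsg.Agent.Grp.TM
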