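import Cfsg.Agent.Lib.Grp.TM.Group

/-! The scalars, and the triangular maps on prefixes. -/

set_option autoImplicit false
set_option maxRecDepth 100000

namespace Cfsg.Agent.Grp.TM

theorem scal_data : ((scalL 2).all fun c => Nat.blt c (2 ^ 24)) && Nat.beq (scalL 2).length 24 &&
    (powL (scalL 2) 7 == oneL) &&
    ((List.range 7).all fun k => (List.range 8).any fun c => Nat.ble 1 c &&
      scalL c == powL (scalL 2) k) &&
    ((List.range 8).all fun c => Nat.beq c 0 || (List.range 7).any fun k =>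
      ((List.range 24).all fun j => Nat.blt j 3 ||
        Nat.beq (app (powL (scalL 2) k) (2 ^ j) % 8) 0) &&
      Nat.beq (app (powL (scalL 2) k) c % 8) 1) = true := by
  decide +kernel

theorem powL_two_bound : (∀ c ∈ scalL 2, c < 2 ^ 24) ∧ (scalL 2).length = 24 ∧
    powL (scalL 2) 7 = oneL := by
  have h := scal_data
  simp only [Bool.and_eq_true, List.all_eq_true, Nat.blt_eq, Nat.beq_eq, beq_iff_eq] at h
  exact ⟨h.1.1.1.1, h.1.1.1.2, h.1.1.2⟩

theorem app_powL {A : List ℕ} (hA : ∀ c ∈ A, c < 2 ^ 24) :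
    ∀ (k : ℕ) {v : ℕ}, v < 2 ^ 24 → app (powL A k) v = (app A)^[k] v
  | 0, v, hv => app_oneL hv
  | k + 1, v, hv => by
    show app (mulL A (powL A k)) v = _
    rw [app_mulL, app_powL hA k hv, Function.iterate_succ_apply']

/-- multiplication by a primitive scalar -/
def zE : W ≃+ W where
  toFun v := ⟨app (scalL 2) v.val, app_lt powL_two_bound.1 _⟩
  invFun v := ⟨app (powL (scalL 2) 6) v.val, by
    rw [app_powL powL_two_bound.1 6 v.lt, Function.iterate_succ_apply']
    exact app_lt powL_two_bound.1 _⟩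
  left_inv v := W.ext (by
    show app (powL (scalL 2) 6) (app (scalL 2) v.val) = v.val
    rw [app_powL powL_two_bound.1 6 (app_lt powL_two_bound.1 _), ← Function.iterate_succ_apply,
      ← app_powL powL_two_bound.1 7 v.lt, powL_two_bound.2.2, app_oneL v.lt])
  right_inv v := W.ext (by
    show app (scalL 2) (app (powL (scalL 2) 6) v.val) = v.val
    rw [← app_mulL]
    show app (powL (scalL 2) 7) v.val = v.val
    rw [powL_two_bound.2.2, app_oneL v.lt])
  map_add' u v := W.ext (app_xor _ _ _)

/-- the scalar as an automorphism -/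
def zz : GW := AddEquiv.toMultiplicative zE

theorem act_zz (v : W) : (act zz v).val = app (scalL 2) v.val := rfl

theorem act_zz_pow (k : ℕ) (v : W) : (act (zz ^ k) v).val = app (powL (scalL 2) k) v.val := by
  induction k with
  | zero => rw [pow_zero, act_one]; exact (app_oneL v.lt).symm
  | succ k ih =>
    rw [pow_succ', act_mul, act_zz, ih]
    exact (app_mulL _ _ _).symm

theorem zz_pow_seven : zz ^ 7 = 1 :=
  mm_injective (by
    refine List.ext_getElem (by simp [mm, length_mat]) fun j h1 h2 => ?_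
    have hj : j < 24 := by simpa [mm, length_mat] using h1
    simp only [mm, mat, List.getElem_ofFn]
    refine congrArg W.val (W.ext ?_)
    show (act (zz ^ 7) _).val = (act 1 _).val
    rw [act_zz_pow, powL_two_bound.2.2, act_one, app_oneL (basisW _).lt])

theorem zz_comm_gen (i : ℕ) : Commute zz (gen i) := by
  refine mm_injective ?_
  have hm : mm zz = scalL 2 := by
    refine List.ext_getElem (by simp [mm, length_mat, powL_two_bound.2.1]) fun j h1 h2 => ?_
    simp only [mm, mat, List.getElem_ofFn]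
    show app (scalL 2) (2 ^ j) = _
    rw [app_two_pow]
    simp [h2]
  rw [mm_mul, mm_mul, hm, mm_gen]
  by_cases h : i < genTab.length
  · have h' := scal_ok
    simp only [scalOK, Bool.and_eq_true, List.all_eq_true, beq_iff_eq] at h'
    have e : genL i = genTab[i] := by simp [genL, h]
    rw [e]; exact h'.1 _ (List.getElem_mem h)
  · have e : genL i = oneL := by
      simp [genL, List.getD_eq_getElem?_getD, List.getElem?_eq_none (not_lt.1 h)]
    rw [e, ← hm, ← mm_one, ← mm_mul, ← mm_mul, one_mul, mul_one]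

theorem zz_comm {g : GW} (hg : g ∈ G0) (k : ℕ) : Commute (zz ^ k) g := by
  refine Commute.pow_left ?_ k
  refine Subgroup.closure_induction (fun x hx => ?_) (Commute.one_right _)
    (fun x y _ _ hx hy => hx.mul_right hy) (fun x _ hx => hx.inv_right) hg
  obtain ⟨i, rfl⟩ := hx
  exact zz_comm_gen i

theorem scal_power {c : ℕ} (h1 : 1 ≤ c) (h7 : c ≤ 7) :
    ∃ k, ∀ v : W, app (scalL c) v.val = (act (zz ^ k) v).val := by
  have h := scal_ok
  simp only [scalOK, Bool.and_eq_true, List.all_eq_true, Bool.or_eq_true, List.any_eq_true,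
    Nat.beq_eq, beq_iff_eq, List.mem_range] at h
  obtain h0 | ⟨k, -, hk⟩ := h.2 c (by omega)
  · omega
  · exact ⟨k, fun v => by rw [act_zz_pow, hk]⟩

theorem tri_gw {w : List ℕ} (hw : isU w = true) : Tri (gw w) := by
  induction w with
  | nil => exact tri_one
  | cons i w ih =>
    simp only [isU, List.all_cons, Bool.and_eq_true] at hw
    exact tri_mul (gen_tri (by simpa [isU] using hw.1)) (ih hw.2)

theorem tri_cong {g : GW} (hg : Tri g) (d : ℕ) {x y : W}
    (h : x.val % 2 ^ (3 * d) = y.val % 2 ^ (3 * d)) :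
    (act g x).val % 2 ^ (3 * d) = (act g y).val % 2 ^ (3 * d) := by
  have hxy : 2 ^ (3 * d) ∣ (x + y).val := by
    rw [Nat.dvd_iff_mod_eq_zero, W.val_add, Nat.xor_mod_two_pow, h, Nat.xor_self]
  have h1 : 2 ^ (3 * d) ∣ (act g (x + y) + (x + y)).val :=
    (pow_dvd_pow 2 ((Nat.mul_le_mul_left 3 (Nat.le_succ d)).trans (lev_ge d))).trans (hg d _ hxy)
  have h2 := dvd_xor h1 hxy
  rw [← W.val_add, add_assoc, W.add_self, add_zero, act_add, W.val_add, Nat.dvd_iff_mod_eq_zero,
    Nat.xor_mod_two_pow] at h2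
  exact Nat.xor_eq_zero_iff.1 h2

/-- removing the unipotent part: the unit of a scalar with a given first digit -/
theorem scal_norm {c : ℕ} (hc : c ≠ 0) (h8 : c < 8) :
    ∃ k, ∀ v : W, v.val % 8 = c → (act (zz ^ k) v).val % 8 = 1 := by
  have h := scal_data
  simp only [Bool.and_eq_true, List.all_eq_true, Bool.or_eq_true, List.any_eq_true, Nat.beq_eq,
    Nat.blt_eq, List.mem_range, decide_eq_true_eq] at h
  obtain h0 | ⟨k, -, hz, h1⟩ := h.2 c h8
  · exact absurd h0 hc
  refine ⟨k, fun v hv => ?_⟩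
  rw [act_zz_pow]
  set A := powL (scalL 2) k
  have := lin_ext (f := fun u => app A u % 2 ^ 3) (g := fun u => app A (u % 2 ^ 3) % 2 ^ 3)
    (fun a b => by simp only [app_xor, Nat.xor_mod_two_pow])
    (fun a b => by simp only [Nat.xor_mod_two_pow, app_xor]) 24 (fun j hj => ?_) v.val v.lt
  · rw [show (2 : ℕ) ^ 3 = 8 from rfl] at this
    rw [this, hv, h1]
  · by_cases hj3 : j < 3
    · show _ = _ % _
      rw [Nat.mod_eq_of_lt (Nat.pow_lt_pow_right (by norm_num) hj3)]
    · have e : (2 : ℕ) ^ j % 2 ^ 3 = 0 :=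
        Nat.mod_eq_zero_of_dvd (pow_dvd_pow 2 (not_lt.1 hj3))
      show app A (2 ^ j) % 2 ^ 3 = app A (2 ^ j % 2 ^ 3) % 2 ^ 3
      rw [e, app_zero]
      exact (hz j hj).resolve_left hj3

end Cfsg.Agent.Grp.TM
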