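import Cfsg.Agent.Lib.Grp.TM.Model

/-! Identifying 24 bits with eight coordinates over the field. -/

set_option autoImplicit false
set_option maxRecDepth 100000

namespace Cfsg.Agent.Grp.TM

open Matrix Cfsg.Agent.Classical Cfsg.Agent.Classical.OrthAut
open Cfsg.Agent.Lie.Chev.IsoD4 (I8 ent root root_val coverHom)
open Cfsg.Agent.Lie.OrthGen (coef toM toM_apply)
open Cfsg.Lie

variable {K : Type*} [Field K] [Fintype K] [CharP K 2] (hK : Fintype.card K = 8) {α : K}
  (hα : α * α * α = α + 1)

/-- the coordinates of a bit vector -/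
def phiFun (α : K) (v : W) : I8 → K := fun k => dec α (v.val >>> (3 * pos k))

omit [Fintype K] in
theorem phiFun_add (u v : W) : phiFun α (u + v) = phiFun α u + phiFun α v :=
  funext fun k => by simp [phiFun, Nat.shiftRight_xor_distrib, dec_xor]

include hK hα in
theorem phiFun_bijective : Function.Bijective (phiFun α) := by
  classical
  have : Fintype W := Fintype.ofFinite W
  refine (Fintype.bijective_iff_injective_and_card _).2 ⟨fun u v h => W.ext ?_, ?_⟩
  · refine Nat.eq_of_testBit_eq fun j => ?_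
    by_cases hj : j < 24
    · have hd := dec_inj hα (congrFun h (ord ⟨j / 3, by omega⟩)) (j % 3) (Nat.mod_lt _ (by norm_num))
      simp only [pos_ord, Nat.testBit_shiftRight, Nat.div_add_mod] at hd
      exact hd
    · rw [Nat.testBit_lt_two_pow (u.lt.trans_le (Nat.pow_le_pow_right (by norm_num) (not_lt.1 hj))),
        Nat.testBit_lt_two_pow (v.lt.trans_le (Nat.pow_le_pow_right (by norm_num) (not_lt.1 hj)))]
  · rw [Fintype.card_fun, hK, Fintype.card_sum, Fintype.card_fin, ← Nat.card_eq_fintype_card,
      Nat.card_congr (β := Fin (2 ^ 24))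
      { toFun := fun v : W => ⟨v.val, v.lt⟩
        invFun := fun j => ⟨j.1, j.2⟩
        left_inv := fun _ => rfl
        right_inv := fun _ => rfl }, Nat.card_fin]
    norm_num

/-- the identification -/
noncomputable def phi : W ≃+ (I8 → K) :=
  AddEquiv.ofBijective (AddMonoidHom.mk' (phiFun α) phiFun_add) (phiFun_bijective hK hα)

/-- an isometry as a bit map -/
noncomputable def rhoFun (g : isometryGroup K ⇑(qfPlus 4 K)) : W ≃+ W :=
  ((phi hK hα).trans
    { toFun := fun x => ogVal g *ᵥ x
      invFun := fun x => ogVal g⁻¹ *ᵥ x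
      left_inv := ogVal_inv_cancel g
      right_inv := ogVal_cancel_inv g
      map_add' := Matrix.mulVec_add _ }).trans (phi hK hα).symm

theorem phi_rho (g : isometryGroup K ⇑(qfPlus 4 K)) (v : W) :
    phi hK hα (rhoFun hK hα g v) = ogVal g *ᵥ phi hK hα v :=
  (phi hK hα).apply_symm_apply _

/-- the representation -/
noncomputable def rho : isometryGroup K ⇑(qfPlus 4 K) →* GW where
  toFun g := AddEquiv.toMultiplicative (rhoFun hK hα g)
  map_one' := by
    refine AddEquiv.toMultiplicative.symm.injective (AddEquiv.ext fun v => ?_)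
    refine (phi hK hα).injective ?_
    show phi hK hα (rhoFun hK hα 1 v) = phi hK hα v
    rw [phi_rho, ogVal_one, Matrix.one_mulVec]
  map_mul' g h := by
    refine AddEquiv.toMultiplicative.symm.injective (AddEquiv.ext fun v => ?_)
    refine (phi hK hα).injective ?_
    show phi hK hα (rhoFun hK hα (g * h) v) = phi hK hα (rhoFun hK hα g (rhoFun hK hα h v))
    rw [phi_rho, phi_rho, phi_rho, ogVal_mul, Matrix.mulVec_mulVec]

omit [Fintype K] in
theorem dec_root8 {r : ℕ} (hr : r < 24) (t : ℕ) (i j : I8) :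
    dec α (root8 r t i j) = ogVal (root K r (dec α t)) i j := by
  have hc : ((coef (ent r) i j : ℤ) : K) = if coef (ent r) i j % 2 = 1 then 1 else 0 := by
    rcases Int.emod_two_eq_zero_or_one (coef (ent r) i j) with h | h <;>
      conv_lhs => rw [← Int.mul_ediv_add_emod (coef (ent r) i j) 2, h]
    all_goals simp [h, CharTwo.two_eq_zero]
  rw [root_val hr, root8, dec_xor, Matrix.add_apply, Matrix.smul_apply, toM_apply, hc,
    Matrix.one_apply]
  simp only [Bool.cond_decide, apply_ite (dec α), dec_zero, dec_one]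
  congr 1
  split_ifs <;> simp

omit [Fintype K] in
include hα in
theorem dec_mmul8 {A B : I8 → I8 → ℕ} {P Q : Matrix I8 I8 K} (hA : ∀ i j, dec α (A i j) = P i j)
    (hB : ∀ i j, dec α (B i j) = Q i j) (i j : I8) : dec α (mmul8 A B i j) = (P * Q) i j := by
  simp only [mmul8, dec_xor, dec_mul8 hα, hA, hB, Matrix.mul_apply, Fintype.sum_sum_type,
    Fin.sum_univ_four]

/-- the isometry of a word -/
noncomputable def wordElt (α : K) (w : List (ℕ × ℕ)) : isometryGroup K ⇑(qfPlus 4 K) :=
  (w.map fun p => root K p.1 (dec α p.2)).prod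

omit [Fintype K] in
include hα in
theorem dec_M8 : ∀ (w : List (ℕ × ℕ)), (∀ p ∈ w, p.1 < 24) → ∀ i j,
    dec α (M8 w i j) = ogVal (wordElt α w) i j
  | [], _, i, j => by
    show _ = (1 : Matrix I8 I8 K) i j
    rw [Matrix.one_apply, M8]
    by_cases h : i = j <;> simp [h, dec_zero, dec_one]
  | [p], h, i, j => by
    rw [M8, dec_root8 (h p List.mem_cons_self), wordElt]
    simp
  | p :: q :: w, h, i, j => by
    rw [M8, dec_mmul8 hα (dec_root8 (h p List.mem_cons_self) p.2)
      (dec_M8 (q :: w) fun x hx => h x (List.mem_cons_of_mem _ hx))]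
    rfl

theorem word8_lt (i : ℕ) : ∀ p ∈ word8 i, p.1 < 24 := by
  intro p hp
  unfold word8 at hp
  split_ifs at hp <;> fin_cases hp <;> norm_num

theorem rho_word {i : ℕ} (hi : i < 16) : rho hK hα (wordElt α (word8 i)) = gen i := by
  refine mm_injective ?_
  rw [mm_gen]
  refine List.ext_getElem (by simp [mm, length_mat, (genL_spec i).2.1]) fun j h1 h2 => ?_
  have hj : j < 24 := by simpa [mm, length_mat] using h1
  simp only [mm, mat, List.getElem_ofFn]
  set C := (genL i)[j] with hC
  have hCb : C < 2 ^ 24 := (genL_spec i).1 _ (List.getElem_mem h2)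
  suffices h : phi hK hα (rhoFun hK hα (wordElt α (word8 i)) (basisW ⟨j, hj⟩)) =
      phi hK hα ⟨C, hCb⟩ from congrArg W.val ((phi hK hα).injective h)
  rw [phi_rho]
  funext k
  obtain ⟨e, rfl⟩ := ord_pos k
  show (_ : I8 → K) _ = dec α (C >>> (3 * pos (ord e)))
  rw [pos_ord]
  have hb : ∀ l : I8, phi hK hα (basisW ⟨j, hj⟩) l =
      if l = ord ⟨j / 3, by omega⟩ then dec α (2 ^ (j % 3)) else 0 := by
    intro l
    obtain ⟨d, rfl⟩ := ord_pos l
    show dec α (2 ^ j >>> (3 * pos (ord d))) = _
    rw [pos_ord]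
    have hinj : ∀ a b : Fin 8, ord a = ord b → a = b := fun a b h =>
      Fin.ext (by rw [← pos_ord a, h, pos_ord])
    by_cases hd : d = ⟨j / 3, by omega⟩
    · subst hd
      rw [if_pos rfl, Nat.shiftRight_eq_div_pow,
        Nat.pow_div (by simp only; omega) (by norm_num)]
      congr 2
      simp only
      omega
    · rw [if_neg fun h => hd (hinj _ _ h)]
      have hne : (d : ℕ) ≠ j / 3 := fun h => hd (Fin.ext h)
      have : ∀ b < 3, (2 ^ j >>> (3 * (d : ℕ))).testBit b = false := fun b hb => by
        rw [Nat.testBit_shiftRight, Nat.testBit_two_pow]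
        simpa using fun h => hne (by omega)
      simp [dec, this 0 (by norm_num), this 1 (by norm_num), this 2 (by norm_num), -Nat.testBit_zero]
  rw [Matrix.mulVec, dotProduct]
  simp only [hb, mul_ite, mul_zero, Finset.sum_ite_eq', Finset.mem_univ, if_true]
  rw [← dec_M8 hα _ (word8_lt i), ← dec_mul8 hα, ← dec_mod α (C >>> _), ← dec_mod α (mul8 _ _)]
  congr 1
  have h := model_ok
  simp only [List.all_eq_true, List.mem_range, List.mem_finRange, true_implies, Nat.beq_eq] at h
  have hm := h i hi ⟨j / 3, by omega⟩ (j % 3) (Nat.mod_lt _ (by norm_num)) e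
  rw [show 3 * ((⟨j / 3, by omega⟩ : Fin 8) : ℕ) + j % 3 = j from Nat.div_add_mod j 3,
    List.getD_eq_getElem _ _ h2] at hm
  exact hm.symm

end Cfsg.Agent.Grp.TM
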