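import Cfsg.Agent.Lib.Grp.TM.Bounds
import Cfsg.Agent.Lib.Grp.TM.CheckStab0
import Cfsg.Agent.Lib.Grp.TM.CheckStab1
import Cfsg.Agent.Lib.Grp.TM.CheckStab2
import Cfsg.Agent.Lib.Grp.TM.CheckStab3
import Cfsg.Agent.Lib.Grp.TM.CheckStab4
import Cfsg.Agent.Lib.Grp.TM.CheckStab5

/-! The orders of the stabilisers, given the order of the group. -/

set_option autoImplicit false
set_option maxRecDepth 100000

namespace Cfsg.Agent.Grp.TM

theorem chain_lt : ((chain0 ++ chain1 ++ chain2 ++ chain3 ++ chain4 ++ chain5).all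
    fun p => Nat.blt p.1 (2 ^ 24)) = true := by decide +kernel

theorem chain_lt' : (chain0.all fun p => Nat.blt p.1 (2 ^ 24)) = true ∧
    (chain1.all fun p => Nat.blt p.1 (2 ^ 24)) = true ∧
    (chain2.all fun p => Nat.blt p.1 (2 ^ 24)) = true ∧
    (chain3.all fun p => Nat.blt p.1 (2 ^ 24)) = true ∧
    (chain4.all fun p => Nat.blt p.1 (2 ^ 24)) = true ∧
    (chain5.all fun p => Nat.blt p.1 (2 ^ 24)) = true := by
  have h := chain_lt
  simp only [List.all_append, Bool.and_eq_true] at h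
  tauto

theorem hOrd_vals : hOrd 0 = 12288 ∧ hOrd 1 = 256 ∧ hOrd 2 = 168 ∧ hOrd 3 = 12096 ∧
    hOrd 4 = 192 ∧ hOrd 5 = 216 := by decide +kernel

theorem dvd_of_parts {h n : ℕ} (e : h = Nat.gcd h (2 ^ 24) * Nat.gcd h (3 ^ 24))
    (h2 : Nat.gcd h (2 ^ 24) ∣ n) (h3 : Nat.gcd h (3 ^ 24) ∣ n) : h ∣ n := by
  rw [e]
  exact ((Nat.Coprime.pow 24 24 (by norm_num : Nat.Coprime 2 3)).coprime_dvd_left
    (Nat.gcd_dvd_right _ _)).coprime_dvd_right (Nat.gcd_dvd_right _ _) |>.mul_dvd_of_dvd_of_dvd h2 h3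

theorem dvd_of_parts7 {h n : ℕ} (e : h = Nat.gcd h (2 ^ 24) * Nat.gcd h (3 ^ 24) * 7)
    (h2 : Nat.gcd h (2 ^ 24) ∣ n) (h3 : Nat.gcd h (3 ^ 24) ∣ n) (h7 : 7 ∣ n) : h ∣ n := by
  rw [e]
  refine Nat.Coprime.mul_dvd_of_dvd_of_dvd ?_ ?_ h7
  · exact Nat.Coprime.mul_left
      ((Nat.Coprime.pow_left 24 (by norm_num : Nat.Coprime 2 7)).coprime_dvd_left
        (Nat.gcd_dvd_right _ _))
      ((Nat.Coprime.pow_left 24 (by norm_num : Nat.Coprime 3 7)).coprime_dvd_left
        (Nat.gcd_dvd_right _ _))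
  · exact ((Nat.Coprime.pow 24 24 (by norm_num : Nat.Coprime 2 3)).coprime_dvd_left
      (Nat.gcd_dvd_right _ _)).coprime_dvd_right (Nat.gcd_dvd_right _ _) |>.mul_dvd_of_dvd_of_dvd h2 h3

theorem two_dvd_stab {i : Fin 6} {ch : List (ℕ × List (List ℕ))}
    (hlt : (ch.all fun p => Nat.blt p.1 (2 ^ 24)) = true) (h : twoOK i ch = true) :
    Nat.gcd (hOrd i) (2 ^ 24) ∣ Nat.card (stab i) :=
  (two_dvd hlt h).trans (Subgroup.card_dvd_of_le (stabU_le i))

theorem three_dvd_stab {i : Fin 6} {sg pg : List (List ℕ)} (hs : sgenOK i sg = true)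
    (h : sylOK i sg pg = true) : Nat.gcd (hOrd i) (3 ^ 24) ∣ Nat.card (stab i) :=
  (syl_spec h).2 ▸ Subgroup.card_dvd_of_le (swClosure_le hs)

theorem seven_dvd_stab {i : Fin 6} {sg : List (List ℕ)} {y : List ℕ × List ℕ}
    {z : List (ℕ × ℕ × List ℕ)} (hs : sgenOK i sg = true) (h : sevenOK i sg y z = true) :
    7 ∣ Nat.card (stab i) := by
  obtain ⟨g, hg, -, ho⟩ := seven_spec hs h
  exact ho ▸ Subgroup.orderOf_dvd_natCard (stab i) hg

theorem hOrd_dvd (i : Fin 6) : hOrd i ∣ Nat.card (stab i) := by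
  obtain ⟨l0, l1, l2, l3, l4, l5⟩ := chain_lt'
  fin_cases i
  · exact dvd_of_parts (by decide +kernel) (two_dvd_stab (i := 0) l0 two0_ok)
      (three_dvd_stab sgen0_ok syl0_ok)
  · refine dvd_of_parts (by decide +kernel) (two_dvd_stab (i := 1) l1 two1_ok) ?_
    refine (dvd_of_eq (show _ = 1 from ?_)).trans (one_dvd _)
    decide +kernel
  · exact dvd_of_parts7 (by decide +kernel) (two_dvd_stab (i := 2) l2 two2_ok)
      (three_dvd_stab sgen2_ok syl2_ok) (seven_dvd_stab sgen2_ok seven2_ok)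
  · exact dvd_of_parts7 (by decide +kernel) (two_dvd_stab (i := 3) l3 two3_ok)
      (three_dvd_stab sgen3_ok syl3_ok) (seven_dvd_stab sgen3_ok seven3_ok)
  · exact dvd_of_parts (by decide +kernel) (two_dvd_stab (i := 4) l4 two4_ok)
      (three_dvd_stab sgen4_ok syl4_ok)
  · exact dvd_of_parts (by decide +kernel) (two_dvd_stab (i := 5) l5 two5_ok)
      (three_dvd_stab sgen5_ok syl5_ok)

/-- an orbit -/
def orb (i : Fin 6) : Set W := MulAction.orbit G0 (repW i)

theorem orb_mul_stab (i : Fin 6) : (orb i).ncard * Nat.card (stab i) = Nat.card G0 := by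
  have e : Nat.card (stab i) = Nat.card (MulAction.stabilizer G0 (repW i)) := by
    refine Nat.card_congr ?_
    exact
      { toFun := fun g => ⟨⟨g.1, g.2.1⟩, g.2.2⟩
        invFun := fun g => ⟨g.1.1, g.1.2, g.2⟩
        left_inv := fun _ => rfl
        right_inv := fun _ => rfl }
  rw [orb, e, ← MulAction.index_stabilizer, Subgroup.index_mul_card]

theorem act_zz_orb {i : Fin 6} (hi : (i : ℕ) < 3) (k : ℕ) : act (zz ^ k) (repW i) ∈ orb i := by
  induction k with
  | zero => exact MulAction.mem_orbit_self _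
  | succ k ih =>
    obtain ⟨g, hg⟩ := ih
    have h := sing_ok
    simp only [singOK, List.all_eq_true, List.mem_range, Bool.and_eq_true, Nat.beq_eq] at h
    have hz : act zz (repW i) = act (gw (singTab.getD i [])) (repW i) := W.ext (by
      rw [act_zz, act_gw]
      exact (h i hi).2.symm)
    refine ⟨g * ⟨_, gw_mem (singTab.getD i [])⟩, ?_⟩
    show act ((g : GW) * gw (singTab.getD i [])) (repW i) = _
    have hcomm : Commute zz (g : GW) := by simpa using zz_comm g.2 1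
    rw [act_mul, ← hz, ← act_mul, ← hcomm.eq, act_mul, show act (g : GW) (repW i) = _ from hg,
      ← act_mul, ← pow_succ']

theorem card_W : Nat.card W = 2 ^ 24 := by
  rw [Nat.card_congr (β := Fin (2 ^ 24))
    { toFun := fun v => ⟨v.val, v.lt⟩
      invFun := fun j => ⟨j.1, j.2⟩
      left_inv := fun _ => rfl
      right_inv := fun _ => rfl }, Nat.card_fin]

theorem cover_bound : 2 ^ 24 - 1 ≤ (orb 0).ncard + (orb 1).ncard + (orb 2).ncard +
    7 * ((orb 3).ncard + (orb 4).ncard + (orb 5).ncard) := by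
  classical
  set B : Set W := orb 3 ∪ orb 4 ∪ orb 5 with hB
  set A : Set W := orb 0 ∪ orb 1 ∪ orb 2 with hA
  have hsub : ({0} : Set W)ᶜ ⊆ A ∪ ⋃ k ∈ Finset.range 7, act (zz ^ k) '' B := by
    intro v hv
    obtain ⟨i, k, g, hg, rfl⟩ := good_all (v := v) hv
    have hmem : act g (repW i) ∈ orb i := ⟨⟨g, hg⟩, rfl⟩
    by_cases hi : (i : ℕ) < 3
    · obtain ⟨x, hx⟩ := act_zz_orb hi k
      have : act g (act (zz ^ k) (repW i)) ∈ orb i :=
        ⟨⟨g, hg⟩ * x, by rw [← hx]; rfl⟩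
      refine Or.inl ?_
      fin_cases i <;> simp_all
    · refine Or.inr (Set.mem_iUnion₂.2 ⟨k % 7, Finset.mem_range.2 (Nat.mod_lt _ (by norm_num)),
        act g (repW i), ?_, ?_⟩)
      · fin_cases i <;> simp_all
      · rw [← act_mul, ← act_mul, (zz_comm hg _).eq]
        congr 2
        conv_rhs => rw [← Nat.mod_add_div k 7, pow_add, pow_mul, zz_pow_seven, one_pow, mul_one]
  have h := (Set.ncard_le_ncard hsub (Set.toFinite _)).trans (Set.ncard_union_le _ _)
  rw [Set.ncard_compl, Set.ncard_singleton, card_W] at h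
  have hU : (⋃ k ∈ Finset.range 7, act (zz ^ k) '' B).ncard ≤ 7 * B.ncard :=
    calc _ ≤ ∑ k ∈ Finset.range 7, (act (zz ^ k) '' B).ncard :=
          Finset.set_ncard_biUnion_le _ _
      _ ≤ ∑ k ∈ Finset.range 7, B.ncard :=
          Finset.sum_le_sum fun k _ => Set.ncard_image_le (Set.toFinite _)
      _ = 7 * B.ncard := by simp
  have a1 := Set.ncard_union_le (orb 0 ∪ orb 1) (orb 2)
  have a2 := Set.ncard_union_le (orb 0) (orb 1)
  have b1 := Set.ncard_union_le (orb 3 ∪ orb 4) (orb 5)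
  have b2 := Set.ncard_union_le (orb 3) (orb 4)
  rw [← hA] at a1
  rw [← hB] at b1
  generalize (2 : ℕ) ^ 24 - 1 = N at h ⊢
  omega

theorem card_stab (hG : Nat.card G0 = 211341312) (i : Fin 6) : Nat.card (stab i) = hOrd i := by
  obtain ⟨v0, v1, v2, v3, v4, v5⟩ := hOrd_vals
  have key : ∀ j : Fin 6, (orb j).ncard * hOrd j ≤ 211341312 := fun j => by
    rw [← hG, ← orb_mul_stab j]
    exact Nat.mul_le_mul_left _ (Nat.le_of_dvd Nat.card_pos (hOrd_dvd j))
  have k0 := key 0; have k1 := key 1; have k2 := key 2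
  have k3 := key 3; have k4 := key 4; have k5 := key 5
  simp only [Fin.isValue, Fin.coe_ofNat_eq_mod, Nat.reduceMod, v0, v1, v2, v3, v4, v5] at k0 k1 k2 k3 k4 k5
  have hc := cover_bound
  norm_num at hc
  have e0 : (orb 0).ncard = 17199 := by omega
  have e1 : (orb 1).ncard = 825552 := by omega
  have e2 : (orb 2).ncard = 1257984 := by omega
  have e3 : (orb 3).ncard = 17472 := by omega
  have e4 : (orb 4).ncard = 1100736 := by omega
  have e5 : (orb 5).ncard = 978432 := by omega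
  have h := orb_mul_stab i
  rw [hG] at h
  fin_cases i <;> simp_all <;> omega

end Cfsg.Agent.Grp.TM
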