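import Mathlib

/-! Bit vectors of length 24 and linear maps given by the images of the basis. -/

set_option autoImplicit false

namespace Cfsg.Agent.Grp.TM

/-- the linear map with the given columns -/
def app : List ℕ → ℕ → ℕ
  | [], _ => 0
  | c :: cs, v => (cond (Nat.beq (v % 2) 1) c 0) ^^^ app cs (v / 2)

/-- composition -/
def mulL (A B : List ℕ) : List ℕ := B.map (app A)

/-- the identity -/
def oneL : List ℕ := [1, 2, 4, 8, 16, 32, 64, 128, 256, 512, 1024, 2048, 4096, 8192, 16384,
  32768, 65536, 131072, 262144, 524288, 1048576, 2097152, 4194304, 8388608]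

/-- sum -/
def addL (A B : List ℕ) : List ℕ := List.zipWith (· ^^^ ·) A B

@[simp] theorem app_zero (A : List ℕ) : app A 0 = 0 := by
  induction A with
  | nil => rfl
  | cons c cs ih => simp [app, ih, Nat.beq]

theorem app_xor (A : List ℕ) : ∀ a b : ℕ, app A (a ^^^ b) = app A a ^^^ app A b := by
  induction A with
  | nil => intros; simp [app]
  | cons c cs ih =>
    intro a b
    simp only [app, ← Nat.shiftRight_one, Nat.shiftRight_xor_distrib, ih]
    have key : ∀ x : ℕ, Nat.beq (x % 2) 1 = x.testBit 0 := fun x => by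
      rcases Nat.mod_two_eq_zero_or_one x with h | h <;> simp [h, Nat.beq]
    rw [key, key, key, Nat.testBit_xor]
    cases a.testBit 0 <;> cases b.testBit 0 <;> simp [Nat.xor_assoc, Nat.xor_left_comm, Nat.xor_comm]

theorem app_mulL (A B : List ℕ) : ∀ v : ℕ, app (mulL A B) v = app A (app B v) := by
  induction B with
  | nil => intro; simp [mulL, app]
  | cons c cs ih =>
    intro v
    have h := ih (v / 2)
    simp only [mulL, List.map_cons, app] at h ⊢
    rw [h, app_xor]
    cases Nat.beq (v % 2) 1 <;> simp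

theorem app_addL : ∀ (A B : List ℕ), A.length = B.length → ∀ v : ℕ,
    app (addL A B) v = app A v ^^^ app B v
  | [], [], _, v => by simp [addL, app]
  | a :: as, b :: bs, h, v => by
    have := app_addL as bs (by simpa using h) (v / 2)
    simp only [addL, List.zipWith_cons_cons, app] at this ⊢
    rw [this]
    cases Nat.beq (v % 2) 1 <;> simp [Nat.xor_assoc, Nat.xor_left_comm, Nat.xor_comm]

theorem app_lt {A : List ℕ} {n : ℕ} (h : ∀ c ∈ A, c < 2 ^ n) : ∀ v, app A v < 2 ^ n := by
  induction A with
  | nil => intro; simp [app]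
  | cons c cs ih =>
    intro v
    refine Nat.xor_lt_two_pow ?_ (ih (fun d hd => h d (List.mem_cons_of_mem _ hd)) _)
    cases Nat.beq (v % 2) 1
    · simp
    · simpa using h c List.mem_cons_self

theorem app_two_pow : ∀ (A : List ℕ) (j : ℕ), app A (2 ^ j) = A.getD j 0
  | [], j => by simp [app]
  | c :: cs, 0 => by simp [app, Nat.beq]
  | c :: cs, j + 1 => by
    have h2 : 2 ^ (j + 1) % 2 = 0 := by rw [pow_succ, Nat.mul_mod_left]
    have h3 : 2 ^ (j + 1) / 2 = 2 ^ j := by rw [pow_succ, Nat.mul_div_cancel _ (by norm_num)]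
    simp [app, h2, h3, app_two_pow cs j, Nat.beq]

theorem split_top {n v : ℕ} (hv : v < 2 ^ (n + 1)) :
    v = (if v.testBit n then 2 ^ n else 0) ^^^ v % 2 ^ n := by
  refine Nat.eq_of_testBit_eq fun i => ?_
  rw [Nat.testBit_xor, Nat.testBit_mod_two_pow]
  rcases lt_trichotomy i n with h | h | h
  · by_cases hb : v.testBit n <;> simp [hb, h, Nat.testBit_two_pow, h.ne']
  · subst h; by_cases hb : v.testBit i <;> simp [hb, Nat.testBit_two_pow]
  · have : v.testBit i = false :=
      Nat.testBit_lt_two_pow (hv.trans_le (Nat.pow_le_pow_right (by norm_num) h))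
    by_cases hb : v.testBit n <;> simp [hb, this, Nat.testBit_two_pow, h.ne, h.not_gt]

/-- additive functions are determined by their values at the powers of two -/
theorem lin_ext {f g : ℕ → ℕ} (hf : ∀ a b, f (a ^^^ b) = f a ^^^ f b)
    (hg : ∀ a b, g (a ^^^ b) = g a ^^^ g b) : ∀ n, (∀ j < n, f (2 ^ j) = g (2 ^ j)) →
    ∀ v < 2 ^ n, f v = g v := by
  have h0 : ∀ {k : ℕ → ℕ}, (∀ a b, k (a ^^^ b) = k a ^^^ k b) → k 0 = 0 := fun {k} hk => by
    have := hk 0 0
    simp only [Nat.xor_self] at this
    exact this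
  intro n
  induction n with
  | zero =>
    intro _ v hv
    obtain rfl : v = 0 := by simpa using hv
    rw [h0 hf, h0 hg]
  | succ n ih =>
    intro h v hv
    rw [split_top hv, hf, hg, ih (fun j hj => h j (hj.trans (Nat.lt_succ_self n))) _
      (Nat.mod_lt _ (by positivity))]
    by_cases hb : v.testBit n
    · simp only [hb, if_true, h n (Nat.lt_succ_self n)]
    · simp only [hb, Bool.false_eq_true, if_false, h0 hf, h0 hg]

/-- vectors -/
@[ext] structure W where
  /-- the bits -/
  val : ℕ
  lt : val < 2 ^ 24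
deriving DecidableEq

instance : Finite W := Finite.of_injective (fun v : W => (⟨v.val, v.lt⟩ : Fin (2 ^ 24)))
  fun _ _ h => W.ext (congrArg Fin.val h)

instance : Zero W := ⟨⟨0, by norm_num⟩⟩
instance : Add W := ⟨fun a b => ⟨a.val ^^^ b.val, Nat.xor_lt_two_pow a.lt b.lt⟩⟩
instance : Neg W := ⟨id⟩

@[simp] theorem W.val_zero : (0 : W).val = 0 := rfl
@[simp] theorem W.val_add (a b : W) : (a + b).val = a.val ^^^ b.val := rfl
@[simp] theorem W.val_neg (a : W) : (-a).val = a.val := rfl

instance : AddCommGroup W where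
  add_assoc a b c := W.ext (Nat.xor_assoc _ _ _)
  zero_add a := W.ext (Nat.zero_xor _)
  add_zero a := W.ext (Nat.xor_zero _)
  neg_add_cancel a := W.ext (Nat.xor_self _)
  add_comm a b := W.ext (Nat.xor_comm _ _)
  nsmul := nsmulRec
  zsmul := zsmulRec

theorem W.add_self (a : W) : a + a = 0 := W.ext (Nat.xor_self _)

theorem W.eq_iff {a b : W} : a = b ↔ a.val = b.val := W.ext_iff

/-- the basis -/
def basisW (j : Fin 24) : W := ⟨2 ^ (j : ℕ), Nat.pow_lt_pow_right (by norm_num) j.2⟩

/-- the columns of an additive map -/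
def mat (g : W ≃+ W) : List ℕ := List.ofFn fun j => (g (basisW j)).val

theorem length_mat (g : W ≃+ W) : (mat g).length = 24 := by simp [mat]

theorem app_mat (g : W ≃+ W) (v : W) : app (mat g) v.val = (g v).val := by
  classical
  let f : ℕ → ℕ := fun n => (g ⟨n % 2 ^ 24, Nat.mod_lt _ (by norm_num)⟩).val
  have hf : ∀ a b, f (a ^^^ b) = f a ^^^ f b := fun a b => by
    simp only [f]
    rw [← W.val_add, ← map_add]
    exact congrArg (fun x => (g x).val) (W.ext (Nat.xor_mod_two_pow (n := 24)))
  have := lin_ext (app_xor (mat g)) hf 24 (fun j hj => ?_) v.val v.lt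
  · rw [this]
    exact congrArg (fun x => (g x).val) (W.ext (Nat.mod_eq_of_lt v.lt))
  · rw [app_two_pow, mat, List.getD_eq_getElem?_getD]
    simp only [List.getElem?_ofFn, hj, dite_true, Option.getD_some, f]
    exact congrArg (fun x => (g x).val)
      (W.ext (Nat.mod_eq_of_lt (Nat.pow_lt_pow_right (by norm_num) hj)).symm)

theorem mat_injective : Function.Injective mat := fun g h e => AddEquiv.ext fun v =>
  W.ext (by rw [← app_mat, ← app_mat, e])

theorem mat_trans (g h : W ≃+ W) : mat (h.trans g) = mulL (mat g) (mat h) := by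
  rw [mulL, mat, mat, mat, List.map_ofFn]
  exact congrArg List.ofFn (funext fun j => (app_mat g (h (basisW j))).symm)

theorem mat_one : mat (AddEquiv.refl W) = oneL := by
  rw [oneL, mat, List.ofFn_eq_map]
  rfl

end Cfsg.Agent.Grp.TM
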